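import Cfsg.Agent.Helper18.NChunk
import Cfsg.Prelude.Def_ChevE6

set_option autoImplicit false
set_option maxRecDepth 1000000

namespace Cfsg.Agent.Helper18

open Cfsg.Lie

theorem chkW3_E6_0_0 : allBelow 24 (fun j => chkW3 chevE6 0 (nthN tabE6 0) (j + 0)) = true := by decide +kernel
theorem chkW3_E6_0_24 : allBelow 24 (fun j => chkW3 chevE6 0 (nthN tabE6 0) (j + 24)) = true := by decide +kernel
theorem chkW3_E6_0_48 : allBelow 24 (fun j => chkW3 chevE6 0 (nthN tabE6 0) (j + 48)) = true := by decide +kernel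

theorem chkW3_E6_0 (s : ℕ) (hs : s < 72) : chkW3 chevE6 0 (nthN tabE6 0) s = true := by
  rcases Nat.lt_or_ge s 24 with h0 | h0
  · exact chunkApplyN (p := chkW3 chevE6 0 (nthN tabE6 0)) (n := 24) (off := 0) chkW3_E6_0_0 s (by omega) (by omega)
  rcases Nat.lt_or_ge s 48 with h1 | h1
  · exact chunkApplyN (p := chkW3 chevE6 0 (nthN tabE6 0)) (n := 24) (off := 24) chkW3_E6_0_24 s (by omega) (by omega)
  exact chunkApplyN (p := chkW3 chevE6 0 (nthN tabE6 0)) (n := 24) (off := 48) chkW3_E6_0_48 s (by omega) (by omega)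

theorem chkW3_E6_1_0 : allBelow 24 (fun j => chkW3 chevE6 1 (nthN tabE6 1) (j + 0)) = true := by decide +kernel
theorem chkW3_E6_1_24 : allBelow 24 (fun j => chkW3 chevE6 1 (nthN tabE6 1) (j + 24)) = true := by decide +kernel
theorem chkW3_E6_1_48 : allBelow 24 (fun j => chkW3 chevE6 1 (nthN tabE6 1) (j + 48)) = true := by decide +kernel

theorem chkW3_E6_1 (s : ℕ) (hs : s < 72) : chkW3 chevE6 1 (nthN tabE6 1) s = true := by
  rcases Nat.lt_or_ge s 24 with h0 | h0
  · exact chunkApplyN (p := chkW3 chevE6 1 (nthN tabE6 1)) (n := 24) (off := 0) chkW3_E6_1_0 s (by omega) (by omega)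
  rcases Nat.lt_or_ge s 48 with h1 | h1
  · exact chunkApplyN (p := chkW3 chevE6 1 (nthN tabE6 1)) (n := 24) (off := 24) chkW3_E6_1_24 s (by omega) (by omega)
  exact chunkApplyN (p := chkW3 chevE6 1 (nthN tabE6 1)) (n := 24) (off := 48) chkW3_E6_1_48 s (by omega) (by omega)

theorem chkW3_E6_2_0 : allBelow 24 (fun j => chkW3 chevE6 2 (nthN tabE6 2) (j + 0)) = true := by decide +kernel
theorem chkW3_E6_2_24 : allBelow 24 (fun j => chkW3 chevE6 2 (nthN tabE6 2) (j + 24)) = true := by decide +kernel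
theorem chkW3_E6_2_48 : allBelow 24 (fun j => chkW3 chevE6 2 (nthN tabE6 2) (j + 48)) = true := by decide +kernel

theorem chkW3_E6_2 (s : ℕ) (hs : s < 72) : chkW3 chevE6 2 (nthN tabE6 2) s = true := by
  rcases Nat.lt_or_ge s 24 with h0 | h0
  · exact chunkApplyN (p := chkW3 chevE6 2 (nthN tabE6 2)) (n := 24) (off := 0) chkW3_E6_2_0 s (by omega) (by omega)
  rcases Nat.lt_or_ge s 48 with h1 | h1
  · exact chunkApplyN (p := chkW3 chevE6 2 (nthN tabE6 2)) (n := 24) (off := 24) chkW3_E6_2_24 s (by omega) (by omega)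
  exact chunkApplyN (p := chkW3 chevE6 2 (nthN tabE6 2)) (n := 24) (off := 48) chkW3_E6_2_48 s (by omega) (by omega)

theorem chkW3_E6_3_0 : allBelow 24 (fun j => chkW3 chevE6 3 (nthN tabE6 3) (j + 0)) = true := by decide +kernel
theorem chkW3_E6_3_24 : allBelow 24 (fun j => chkW3 chevE6 3 (nthN tabE6 3) (j + 24)) = true := by decide +kernel
theorem chkW3_E6_3_48 : allBelow 24 (fun j => chkW3 chevE6 3 (nthN tabE6 3) (j + 48)) = true := by decide +kernel

theorem chkW3_E6_3 (s : ℕ) (hs : s < 72) : chkW3 chevE6 3 (nthN tabE6 3) s = true := by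
  rcases Nat.lt_or_ge s 24 with h0 | h0
  · exact chunkApplyN (p := chkW3 chevE6 3 (nthN tabE6 3)) (n := 24) (off := 0) chkW3_E6_3_0 s (by omega) (by omega)
  rcases Nat.lt_or_ge s 48 with h1 | h1
  · exact chunkApplyN (p := chkW3 chevE6 3 (nthN tabE6 3)) (n := 24) (off := 24) chkW3_E6_3_24 s (by omega) (by omega)
  exact chunkApplyN (p := chkW3 chevE6 3 (nthN tabE6 3)) (n := 24) (off := 48) chkW3_E6_3_48 s (by omega) (by omega)

theorem chkW3_E6_4_0 : allBelow 24 (fun j => chkW3 chevE6 4 (nthN tabE6 4) (j + 0)) = true := by decide +kernel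
theorem chkW3_E6_4_24 : allBelow 24 (fun j => chkW3 chevE6 4 (nthN tabE6 4) (j + 24)) = true := by decide +kernel
theorem chkW3_E6_4_48 : allBelow 24 (fun j => chkW3 chevE6 4 (nthN tabE6 4) (j + 48)) = true := by decide +kernel

theorem chkW3_E6_4 (s : ℕ) (hs : s < 72) : chkW3 chevE6 4 (nthN tabE6 4) s = true := by
  rcases Nat.lt_or_ge s 24 with h0 | h0
  · exact chunkApplyN (p := chkW3 chevE6 4 (nthN tabE6 4)) (n := 24) (off := 0) chkW3_E6_4_0 s (by omega) (by omega)
  rcases Nat.lt_or_ge s 48 with h1 | h1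
  · exact chunkApplyN (p := chkW3 chevE6 4 (nthN tabE6 4)) (n := 24) (off := 24) chkW3_E6_4_24 s (by omega) (by omega)
  exact chunkApplyN (p := chkW3 chevE6 4 (nthN tabE6 4)) (n := 24) (off := 48) chkW3_E6_4_48 s (by omega) (by omega)

theorem chkW3_E6_5_0 : allBelow 24 (fun j => chkW3 chevE6 5 (nthN tabE6 5) (j + 0)) = true := by decide +kernel
theorem chkW3_E6_5_24 : allBelow 24 (fun j => chkW3 chevE6 5 (nthN tabE6 5) (j + 24)) = true := by decide +kernel
theorem chkW3_E6_5_48 : allBelow 24 (fun j => chkW3 chevE6 5 (nthN tabE6 5) (j + 48)) = true := by decide +kernel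

theorem chkW3_E6_5 (s : ℕ) (hs : s < 72) : chkW3 chevE6 5 (nthN tabE6 5) s = true := by
  rcases Nat.lt_or_ge s 24 with h0 | h0
  · exact chunkApplyN (p := chkW3 chevE6 5 (nthN tabE6 5)) (n := 24) (off := 0) chkW3_E6_5_0 s (by omega) (by omega)
  rcases Nat.lt_or_ge s 48 with h1 | h1
  · exact chunkApplyN (p := chkW3 chevE6 5 (nthN tabE6 5)) (n := 24) (off := 24) chkW3_E6_5_24 s (by omega) (by omega)
  exact chunkApplyN (p := chkW3 chevE6 5 (nthN tabE6 5)) (n := 24) (off := 48) chkW3_E6_5_48 s (by omega) (by omega)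

end Cfsg.Agent.Helper18
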