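import Cfsg.Agent.Helper18.NChunk
import Cfsg.Prelude.Def_ChevE7

set_option autoImplicit false
set_option maxRecDepth 1000000

namespace Cfsg.Agent.Helper18

open Cfsg.Lie

theorem chkN_E7_0 : chkNAll chevE7 0 (nthN tabE7 0) = true := by decide +kernel
theorem chkW3_E7_0_0 : allBelow 14 (fun j => chkW3 chevE7 0 (nthN tabE7 0) (j + 0)) = true := by decide +kernel
theorem chkW3_E7_0_14 : allBelow 14 (fun j => chkW3 chevE7 0 (nthN tabE7 0) (j + 14)) = true := by decide +kernel
theorem chkW3_E7_0_28 : allBelow 14 (fun j => chkW3 chevE7 0 (nthN tabE7 0) (j + 28)) = true := by decide +kernel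
theorem chkW3_E7_0_42 : allBelow 14 (fun j => chkW3 chevE7 0 (nthN tabE7 0) (j + 42)) = true := by decide +kernel
theorem chkW3_E7_0_56 : allBelow 14 (fun j => chkW3 chevE7 0 (nthN tabE7 0) (j + 56)) = true := by decide +kernel
theorem chkW3_E7_0_70 : allBelow 14 (fun j => chkW3 chevE7 0 (nthN tabE7 0) (j + 70)) = true := by decide +kernel
theorem chkW3_E7_0_84 : allBelow 14 (fun j => chkW3 chevE7 0 (nthN tabE7 0) (j + 84)) = true := by decide +kernel
theorem chkW3_E7_0_98 : allBelow 14 (fun j => chkW3 chevE7 0 (nthN tabE7 0) (j + 98)) = true := by decide +kernel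
theorem chkW3_E7_0_112 : allBelow 14 (fun j => chkW3 chevE7 0 (nthN tabE7 0) (j + 112)) = true := by decide +kernel

theorem chkW3_E7_0 (s : ℕ) (hs : s < 126) : chkW3 chevE7 0 (nthN tabE7 0) s = true := by
  rcases Nat.lt_or_ge s 14 with h0 | h0
  · exact chunkApplyN (p := chkW3 chevE7 0 (nthN tabE7 0)) (n := 14) (off := 0) chkW3_E7_0_0 s (by omega) (by omega)
  rcases Nat.lt_or_ge s 28 with h1 | h1
  · exact chunkApplyN (p := chkW3 chevE7 0 (nthN tabE7 0)) (n := 14) (off := 14) chkW3_E7_0_14 s (by omega) (by omega)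
  rcases Nat.lt_or_ge s 42 with h2 | h2
  · exact chunkApplyN (p := chkW3 chevE7 0 (nthN tabE7 0)) (n := 14) (off := 28) chkW3_E7_0_28 s (by omega) (by omega)
  rcases Nat.lt_or_ge s 56 with h3 | h3
  · exact chunkApplyN (p := chkW3 chevE7 0 (nthN tabE7 0)) (n := 14) (off := 42) chkW3_E7_0_42 s (by omega) (by omega)
  rcases Nat.lt_or_ge s 70 with h4 | h4
  · exact chunkApplyN (p := chkW3 chevE7 0 (nthN tabE7 0)) (n := 14) (off := 56) chkW3_E7_0_56 s (by omega) (by omega)
  rcases Nat.lt_or_ge s 84 with h5 | h5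
  · exact chunkApplyN (p := chkW3 chevE7 0 (nthN tabE7 0)) (n := 14) (off := 70) chkW3_E7_0_70 s (by omega) (by omega)
  rcases Nat.lt_or_ge s 98 with h6 | h6
  · exact chunkApplyN (p := chkW3 chevE7 0 (nthN tabE7 0)) (n := 14) (off := 84) chkW3_E7_0_84 s (by omega) (by omega)
  rcases Nat.lt_or_ge s 112 with h7 | h7
  · exact chunkApplyN (p := chkW3 chevE7 0 (nthN tabE7 0)) (n := 14) (off := 98) chkW3_E7_0_98 s (by omega) (by omega)
  exact chunkApplyN (p := chkW3 chevE7 0 (nthN tabE7 0)) (n := 14) (off := 112) chkW3_E7_0_112 s (by omega) (by omega)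

theorem chkN_E7_1 : chkNAll chevE7 1 (nthN tabE7 1) = true := by decide +kernel
theorem chkW3_E7_1_0 : allBelow 14 (fun j => chkW3 chevE7 1 (nthN tabE7 1) (j + 0)) = true := by decide +kernel
theorem chkW3_E7_1_14 : allBelow 14 (fun j => chkW3 chevE7 1 (nthN tabE7 1) (j + 14)) = true := by decide +kernel
theorem chkW3_E7_1_28 : allBelow 14 (fun j => chkW3 chevE7 1 (nthN tabE7 1) (j + 28)) = true := by decide +kernel
theorem chkW3_E7_1_42 : allBelow 14 (fun j => chkW3 chevE7 1 (nthN tabE7 1) (j + 42)) = true := by decide +kernel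
theorem chkW3_E7_1_56 : allBelow 14 (fun j => chkW3 chevE7 1 (nthN tabE7 1) (j + 56)) = true := by decide +kernel
theorem chkW3_E7_1_70 : allBelow 14 (fun j => chkW3 chevE7 1 (nthN tabE7 1) (j + 70)) = true := by decide +kernel
theorem chkW3_E7_1_84 : allBelow 14 (fun j => chkW3 chevE7 1 (nthN tabE7 1) (j + 84)) = true := by decide +kernel
theorem chkW3_E7_1_98 : allBelow 14 (fun j => chkW3 chevE7 1 (nthN tabE7 1) (j + 98)) = true := by decide +kernel
theorem chkW3_E7_1_112 : allBelow 14 (fun j => chkW3 chevE7 1 (nthN tabE7 1) (j + 112)) = true := by decide +kernel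

theorem chkW3_E7_1 (s : ℕ) (hs : s < 126) : chkW3 chevE7 1 (nthN tabE7 1) s = true := by
  rcases Nat.lt_or_ge s 14 with h0 | h0
  · exact chunkApplyN (p := chkW3 chevE7 1 (nthN tabE7 1)) (n := 14) (off := 0) chkW3_E7_1_0 s (by omega) (by omega)
  rcases Nat.lt_or_ge s 28 with h1 | h1
  · exact chunkApplyN (p := chkW3 chevE7 1 (nthN tabE7 1)) (n := 14) (off := 14) chkW3_E7_1_14 s (by omega) (by omega)
  rcases Nat.lt_or_ge s 42 with h2 | h2
  · exact chunkApplyN (p := chkW3 chevE7 1 (nthN tabE7 1)) (n := 14) (off := 28) chkW3_E7_1_28 s (by omega) (by omega)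
  rcases Nat.lt_or_ge s 56 with h3 | h3
  · exact chunkApplyN (p := chkW3 chevE7 1 (nthN tabE7 1)) (n := 14) (off := 42) chkW3_E7_1_42 s (by omega) (by omega)
  rcases Nat.lt_or_ge s 70 with h4 | h4
  · exact chunkApplyN (p := chkW3 chevE7 1 (nthN tabE7 1)) (n := 14) (off := 56) chkW3_E7_1_56 s (by omega) (by omega)
  rcases Nat.lt_or_ge s 84 with h5 | h5
  · exact chunkApplyN (p := chkW3 chevE7 1 (nthN tabE7 1)) (n := 14) (off := 70) chkW3_E7_1_70 s (by omega) (by omega)
  rcases Nat.lt_or_ge s 98 with h6 | h6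
  · exact chunkApplyN (p := chkW3 chevE7 1 (nthN tabE7 1)) (n := 14) (off := 84) chkW3_E7_1_84 s (by omega) (by omega)
  rcases Nat.lt_or_ge s 112 with h7 | h7
  · exact chunkApplyN (p := chkW3 chevE7 1 (nthN tabE7 1)) (n := 14) (off := 98) chkW3_E7_1_98 s (by omega) (by omega)
  exact chunkApplyN (p := chkW3 chevE7 1 (nthN tabE7 1)) (n := 14) (off := 112) chkW3_E7_1_112 s (by omega) (by omega)

theorem chkN_E7_2 : chkNAll chevE7 2 (nthN tabE7 2) = true := by decide +kernel
theorem chkW3_E7_2_0 : allBelow 14 (fun j => chkW3 chevE7 2 (nthN tabE7 2) (j + 0)) = true := by decide +kernel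
theorem chkW3_E7_2_14 : allBelow 14 (fun j => chkW3 chevE7 2 (nthN tabE7 2) (j + 14)) = true := by decide +kernel
theorem chkW3_E7_2_28 : allBelow 14 (fun j => chkW3 chevE7 2 (nthN tabE7 2) (j + 28)) = true := by decide +kernel
theorem chkW3_E7_2_42 : allBelow 14 (fun j => chkW3 chevE7 2 (nthN tabE7 2) (j + 42)) = true := by decide +kernel
theorem chkW3_E7_2_56 : allBelow 14 (fun j => chkW3 chevE7 2 (nthN tabE7 2) (j + 56)) = true := by decide +kernel
theorem chkW3_E7_2_70 : allBelow 14 (fun j => chkW3 chevE7 2 (nthN tabE7 2) (j + 70)) = true := by decide +kernel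
theorem chkW3_E7_2_84 : allBelow 14 (fun j => chkW3 chevE7 2 (nthN tabE7 2) (j + 84)) = true := by decide +kernel
theorem chkW3_E7_2_98 : allBelow 14 (fun j => chkW3 chevE7 2 (nthN tabE7 2) (j + 98)) = true := by decide +kernel
theorem chkW3_E7_2_112 : allBelow 14 (fun j => chkW3 chevE7 2 (nthN tabE7 2) (j + 112)) = true := by decide +kernel

theorem chkW3_E7_2 (s : ℕ) (hs : s < 126) : chkW3 chevE7 2 (nthN tabE7 2) s = true := by
  rcases Nat.lt_or_ge s 14 with h0 | h0
  · exact chunkApplyN (p := chkW3 chevE7 2 (nthN tabE7 2)) (n := 14) (off := 0) chkW3_E7_2_0 s (by omega) (by omega)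
  rcases Nat.lt_or_ge s 28 with h1 | h1
  · exact chunkApplyN (p := chkW3 chevE7 2 (nthN tabE7 2)) (n := 14) (off := 14) chkW3_E7_2_14 s (by omega) (by omega)
  rcases Nat.lt_or_ge s 42 with h2 | h2
  · exact chunkApplyN (p := chkW3 chevE7 2 (nthN tabE7 2)) (n := 14) (off := 28) chkW3_E7_2_28 s (by omega) (by omega)
  rcases Nat.lt_or_ge s 56 with h3 | h3
  · exact chunkApplyN (p := chkW3 chevE7 2 (nthN tabE7 2)) (n := 14) (off := 42) chkW3_E7_2_42 s (by omega) (by omega)
  rcases Nat.lt_or_ge s 70 with h4 | h4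
  · exact chunkApplyN (p := chkW3 chevE7 2 (nthN tabE7 2)) (n := 14) (off := 56) chkW3_E7_2_56 s (by omega) (by omega)
  rcases Nat.lt_or_ge s 84 with h5 | h5
  · exact chunkApplyN (p := chkW3 chevE7 2 (nthN tabE7 2)) (n := 14) (off := 70) chkW3_E7_2_70 s (by omega) (by omega)
  rcases Nat.lt_or_ge s 98 with h6 | h6
  · exact chunkApplyN (p := chkW3 chevE7 2 (nthN tabE7 2)) (n := 14) (off := 84) chkW3_E7_2_84 s (by omega) (by omega)
  rcases Nat.lt_or_ge s 112 with h7 | h7
  · exact chunkApplyN (p := chkW3 chevE7 2 (nthN tabE7 2)) (n := 14) (off := 98) chkW3_E7_2_98 s (by omega) (by omega)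
  exact chunkApplyN (p := chkW3 chevE7 2 (nthN tabE7 2)) (n := 14) (off := 112) chkW3_E7_2_112 s (by omega) (by omega)

theorem chkN_E7_3 : chkNAll chevE7 3 (nthN tabE7 3) = true := by decide +kernel
theorem chkW3_E7_3_0 : allBelow 14 (fun j => chkW3 chevE7 3 (nthN tabE7 3) (j + 0)) = true := by decide +kernel
theorem chkW3_E7_3_14 : allBelow 14 (fun j => chkW3 chevE7 3 (nthN tabE7 3) (j + 14)) = true := by decide +kernel
theorem chkW3_E7_3_28 : allBelow 14 (fun j => chkW3 chevE7 3 (nthN tabE7 3) (j + 28)) = true := by decide +kernel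
theorem chkW3_E7_3_42 : allBelow 14 (fun j => chkW3 chevE7 3 (nthN tabE7 3) (j + 42)) = true := by decide +kernel
theorem chkW3_E7_3_56 : allBelow 14 (fun j => chkW3 chevE7 3 (nthN tabE7 3) (j + 56)) = true := by decide +kernel
theorem chkW3_E7_3_70 : allBelow 14 (fun j => chkW3 chevE7 3 (nthN tabE7 3) (j + 70)) = true := by decide +kernel
theorem chkW3_E7_3_84 : allBelow 14 (fun j => chkW3 chevE7 3 (nthN tabE7 3) (j + 84)) = true := by decide +kernel
theorem chkW3_E7_3_98 : allBelow 14 (fun j => chkW3 chevE7 3 (nthN tabE7 3) (j + 98)) = true := by decide +kernel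
theorem chkW3_E7_3_112 : allBelow 14 (fun j => chkW3 chevE7 3 (nthN tabE7 3) (j + 112)) = true := by decide +kernel

theorem chkW3_E7_3 (s : ℕ) (hs : s < 126) : chkW3 chevE7 3 (nthN tabE7 3) s = true := by
  rcases Nat.lt_or_ge s 14 with h0 | h0
  · exact chunkApplyN (p := chkW3 chevE7 3 (nthN tabE7 3)) (n := 14) (off := 0) chkW3_E7_3_0 s (by omega) (by omega)
  rcases Nat.lt_or_ge s 28 with h1 | h1
  · exact chunkApplyN (p := chkW3 chevE7 3 (nthN tabE7 3)) (n := 14) (off := 14) chkW3_E7_3_14 s (by omega) (by omega)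
  rcases Nat.lt_or_ge s 42 with h2 | h2
  · exact chunkApplyN (p := chkW3 chevE7 3 (nthN tabE7 3)) (n := 14) (off := 28) chkW3_E7_3_28 s (by omega) (by omega)
  rcases Nat.lt_or_ge s 56 with h3 | h3
  · exact chunkApplyN (p := chkW3 chevE7 3 (nthN tabE7 3)) (n := 14) (off := 42) chkW3_E7_3_42 s (by omega) (by omega)
  rcases Nat.lt_or_ge s 70 with h4 | h4
  · exact chunkApplyN (p := chkW3 chevE7 3 (nthN tabE7 3)) (n := 14) (off := 56) chkW3_E7_3_56 s (by omega) (by omega)
  rcases Nat.lt_or_ge s 84 with h5 | h5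
  · exact chunkApplyN (p := chkW3 chevE7 3 (nthN tabE7 3)) (n := 14) (off := 70) chkW3_E7_3_70 s (by omega) (by omega)
  rcases Nat.lt_or_ge s 98 with h6 | h6
  · exact chunkApplyN (p := chkW3 chevE7 3 (nthN tabE7 3)) (n := 14) (off := 84) chkW3_E7_3_84 s (by omega) (by omega)
  rcases Nat.lt_or_ge s 112 with h7 | h7
  · exact chunkApplyN (p := chkW3 chevE7 3 (nthN tabE7 3)) (n := 14) (off := 98) chkW3_E7_3_98 s (by omega) (by omega)
  exact chunkApplyN (p := chkW3 chevE7 3 (nthN tabE7 3)) (n := 14) (off := 112) chkW3_E7_3_112 s (by omega) (by omega)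

end Cfsg.Agent.Helper18
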