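import Cfsg.Agent.Helper18.NChunk
import Cfsg.Prelude.Def_ChevE7

set_option autoImplicit false
set_option maxRecDepth 1000000

namespace Cfsg.Agent.Helper18

open Cfsg.Lie

theorem chkN_E7_4 : chkNAll chevE7 4 (nthN tabE7 4) = true := by decide +kernel
theorem chkW3_E7_4_0 : allBelow 14 (fun j => chkW3 chevE7 4 (nthN tabE7 4) (j + 0)) = true := by decide +kernel
theorem chkW3_E7_4_14 : allBelow 14 (fun j => chkW3 chevE7 4 (nthN tabE7 4) (j + 14)) = true := by decide +kernel
theorem chkW3_E7_4_28 : allBelow 14 (fun j => chkW3 chevE7 4 (nthN tabE7 4) (j + 28)) = true := by decide +kernel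
theorem chkW3_E7_4_42 : allBelow 14 (fun j => chkW3 chevE7 4 (nthN tabE7 4) (j + 42)) = true := by decide +kernel
theorem chkW3_E7_4_56 : allBelow 14 (fun j => chkW3 chevE7 4 (nthN tabE7 4) (j + 56)) = true := by decide +kernel
theorem chkW3_E7_4_70 : allBelow 14 (fun j => chkW3 chevE7 4 (nthN tabE7 4) (j + 70)) = true := by decide +kernel
theorem chkW3_E7_4_84 : allBelow 14 (fun j => chkW3 chevE7 4 (nthN tabE7 4) (j + 84)) = true := by decide +kernel
theorem chkW3_E7_4_98 : allBelow 14 (fun j => chkW3 chevE7 4 (nthN tabE7 4) (j + 98)) = true := by decide +kernel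
theorem chkW3_E7_4_112 : allBelow 14 (fun j => chkW3 chevE7 4 (nthN tabE7 4) (j + 112)) = true := by decide +kernel

theorem chkW3_E7_4 (s : ℕ) (hs : s < 126) : chkW3 chevE7 4 (nthN tabE7 4) s = true := by
  rcases Nat.lt_or_ge s 14 with h0 | h0
  · exact chunkApplyN (p := chkW3 chevE7 4 (nthN tabE7 4)) (n := 14) (off := 0) chkW3_E7_4_0 s (by omega) (by omega)
  rcases Nat.lt_or_ge s 28 with h1 | h1
  · exact chunkApplyN (p := chkW3 chevE7 4 (nthN tabE7 4)) (n := 14) (off := 14) chkW3_E7_4_14 s (by omega) (by omega)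
  rcases Nat.lt_or_ge s 42 with h2 | h2
  · exact chunkApplyN (p := chkW3 chevE7 4 (nthN tabE7 4)) (n := 14) (off := 28) chkW3_E7_4_28 s (by omega) (by omega)
  rcases Nat.lt_or_ge s 56 with h3 | h3
  · exact chunkApplyN (p := chkW3 chevE7 4 (nthN tabE7 4)) (n := 14) (off := 42) chkW3_E7_4_42 s (by omega) (by omega)
  rcases Nat.lt_or_ge s 70 with h4 | h4
  · exact chunkApplyN (p := chkW3 chevE7 4 (nthN tabE7 4)) (n := 14) (off := 56) chkW3_E7_4_56 s (by omega) (by omega)
  rcases Nat.lt_or_ge s 84 with h5 | h5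
  · exact chunkApplyN (p := chkW3 chevE7 4 (nthN tabE7 4)) (n := 14) (off := 70) chkW3_E7_4_70 s (by omega) (by omega)
  rcases Nat.lt_or_ge s 98 with h6 | h6
  · exact chunkApplyN (p := chkW3 chevE7 4 (nthN tabE7 4)) (n := 14) (off := 84) chkW3_E7_4_84 s (by omega) (by omega)
  rcases Nat.lt_or_ge s 112 with h7 | h7
  · exact chunkApplyN (p := chkW3 chevE7 4 (nthN tabE7 4)) (n := 14) (off := 98) chkW3_E7_4_98 s (by omega) (by omega)
  exact chunkApplyN (p := chkW3 chevE7 4 (nthN tabE7 4)) (n := 14) (off := 112) chkW3_E7_4_112 s (by omega) (by omega)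

theorem chkN_E7_5 : chkNAll chevE7 5 (nthN tabE7 5) = true := by decide +kernel
theorem chkW3_E7_5_0 : allBelow 14 (fun j => chkW3 chevE7 5 (nthN tabE7 5) (j + 0)) = true := by decide +kernel
theorem chkW3_E7_5_14 : allBelow 14 (fun j => chkW3 chevE7 5 (nthN tabE7 5) (j + 14)) = true := by decide +kernel
theorem chkW3_E7_5_28 : allBelow 14 (fun j => chkW3 chevE7 5 (nthN tabE7 5) (j + 28)) = true := by decide +kernel
theorem chkW3_E7_5_42 : allBelow 14 (fun j => chkW3 chevE7 5 (nthN tabE7 5) (j + 42)) = true := by decide +kernel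
theorem chkW3_E7_5_56 : allBelow 14 (fun j => chkW3 chevE7 5 (nthN tabE7 5) (j + 56)) = true := by decide +kernel
theorem chkW3_E7_5_70 : allBelow 14 (fun j => chkW3 chevE7 5 (nthN tabE7 5) (j + 70)) = true := by decide +kernel
theorem chkW3_E7_5_84 : allBelow 14 (fun j => chkW3 chevE7 5 (nthN tabE7 5) (j + 84)) = true := by decide +kernel
theorem chkW3_E7_5_98 : allBelow 14 (fun j => chkW3 chevE7 5 (nthN tabE7 5) (j + 98)) = true := by decide +kernel
theorem chkW3_E7_5_112 : allBelow 14 (fun j => chkW3 chevE7 5 (nthN tabE7 5) (j + 112)) = true := by decide +kernel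

theorem chkW3_E7_5 (s : ℕ) (hs : s < 126) : chkW3 chevE7 5 (nthN tabE7 5) s = true := by
  rcases Nat.lt_or_ge s 14 with h0 | h0
  · exact chunkApplyN (p := chkW3 chevE7 5 (nthN tabE7 5)) (n := 14) (off := 0) chkW3_E7_5_0 s (by omega) (by omega)
  rcases Nat.lt_or_ge s 28 with h1 | h1
  · exact chunkApplyN (p := chkW3 chevE7 5 (nthN tabE7 5)) (n := 14) (off := 14) chkW3_E7_5_14 s (by omega) (by omega)
  rcases Nat.lt_or_ge s 42 with h2 | h2
  · exact chunkApplyN (p := chkW3 chevE7 5 (nthN tabE7 5)) (n := 14) (off := 28) chkW3_E7_5_28 s (by omega) (by omega)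
  rcases Nat.lt_or_ge s 56 with h3 | h3
  · exact chunkApplyN (p := chkW3 chevE7 5 (nthN tabE7 5)) (n := 14) (off := 42) chkW3_E7_5_42 s (by omega) (by omega)
  rcases Nat.lt_or_ge s 70 with h4 | h4
  · exact chunkApplyN (p := chkW3 chevE7 5 (nthN tabE7 5)) (n := 14) (off := 56) chkW3_E7_5_56 s (by omega) (by omega)
  rcases Nat.lt_or_ge s 84 with h5 | h5
  · exact chunkApplyN (p := chkW3 chevE7 5 (nthN tabE7 5)) (n := 14) (off := 70) chkW3_E7_5_70 s (by omega) (by omega)
  rcases Nat.lt_or_ge s 98 with h6 | h6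
  · exact chunkApplyN (p := chkW3 chevE7 5 (nthN tabE7 5)) (n := 14) (off := 84) chkW3_E7_5_84 s (by omega) (by omega)
  rcases Nat.lt_or_ge s 112 with h7 | h7
  · exact chunkApplyN (p := chkW3 chevE7 5 (nthN tabE7 5)) (n := 14) (off := 98) chkW3_E7_5_98 s (by omega) (by omega)
  exact chunkApplyN (p := chkW3 chevE7 5 (nthN tabE7 5)) (n := 14) (off := 112) chkW3_E7_5_112 s (by omega) (by omega)

theorem chkN_E7_6 : chkNAll chevE7 6 (nthN tabE7 6) = true := by decide +kernel
theorem chkW3_E7_6_0 : allBelow 14 (fun j => chkW3 chevE7 6 (nthN tabE7 6) (j + 0)) = true := by decide +kernel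
theorem chkW3_E7_6_14 : allBelow 14 (fun j => chkW3 chevE7 6 (nthN tabE7 6) (j + 14)) = true := by decide +kernel
theorem chkW3_E7_6_28 : allBelow 14 (fun j => chkW3 chevE7 6 (nthN tabE7 6) (j + 28)) = true := by decide +kernel
theorem chkW3_E7_6_42 : allBelow 14 (fun j => chkW3 chevE7 6 (nthN tabE7 6) (j + 42)) = true := by decide +kernel
theorem chkW3_E7_6_56 : allBelow 14 (fun j => chkW3 chevE7 6 (nthN tabE7 6) (j + 56)) = true := by decide +kernel
theorem chkW3_E7_6_70 : allBelow 14 (fun j => chkW3 chevE7 6 (nthN tabE7 6) (j + 70)) = true := by decide +kernel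
theorem chkW3_E7_6_84 : allBelow 14 (fun j => chkW3 chevE7 6 (nthN tabE7 6) (j + 84)) = true := by decide +kernel
theorem chkW3_E7_6_98 : allBelow 14 (fun j => chkW3 chevE7 6 (nthN tabE7 6) (j + 98)) = true := by decide +kernel
theorem chkW3_E7_6_112 : allBelow 14 (fun j => chkW3 chevE7 6 (nthN tabE7 6) (j + 112)) = true := by decide +kernel

theorem chkW3_E7_6 (s : ℕ) (hs : s < 126) : chkW3 chevE7 6 (nthN tabE7 6) s = true := by
  rcases Nat.lt_or_ge s 14 with h0 | h0
  · exact chunkApplyN (p := chkW3 chevE7 6 (nthN tabE7 6)) (n := 14) (off := 0) chkW3_E7_6_0 s (by omega) (by omega)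
  rcases Nat.lt_or_ge s 28 with h1 | h1
  · exact chunkApplyN (p := chkW3 chevE7 6 (nthN tabE7 6)) (n := 14) (off := 14) chkW3_E7_6_14 s (by omega) (by omega)
  rcases Nat.lt_or_ge s 42 with h2 | h2
  · exact chunkApplyN (p := chkW3 chevE7 6 (nthN tabE7 6)) (n := 14) (off := 28) chkW3_E7_6_28 s (by omega) (by omega)
  rcases Nat.lt_or_ge s 56 with h3 | h3
  · exact chunkApplyN (p := chkW3 chevE7 6 (nthN tabE7 6)) (n := 14) (off := 42) chkW3_E7_6_42 s (by omega) (by omega)
  rcases Nat.lt_or_ge s 70 with h4 | h4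
  · exact chunkApplyN (p := chkW3 chevE7 6 (nthN tabE7 6)) (n := 14) (off := 56) chkW3_E7_6_56 s (by omega) (by omega)
  rcases Nat.lt_or_ge s 84 with h5 | h5
  · exact chunkApplyN (p := chkW3 chevE7 6 (nthN tabE7 6)) (n := 14) (off := 70) chkW3_E7_6_70 s (by omega) (by omega)
  rcases Nat.lt_or_ge s 98 with h6 | h6
  · exact chunkApplyN (p := chkW3 chevE7 6 (nthN tabE7 6)) (n := 14) (off := 84) chkW3_E7_6_84 s (by omega) (by omega)
  rcases Nat.lt_or_ge s 112 with h7 | h7
  · exact chunkApplyN (p := chkW3 chevE7 6 (nthN tabE7 6)) (n := 14) (off := 98) chkW3_E7_6_98 s (by omega) (by omega)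
  exact chunkApplyN (p := chkW3 chevE7 6 (nthN tabE7 6)) (n := 14) (off := 112) chkW3_E7_6_112 s (by omega) (by omega)

end Cfsg.Agent.Helper18
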