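import Cfsg.Agent.Helper18.NChunk
import Cfsg.Prelude.Def_ChevE8

set_option autoImplicit false
set_option maxRecDepth 1000000

namespace Cfsg.Agent.Helper18

open Cfsg.Lie

theorem chkW3_E8_3_0 : allBelow 16 (fun j => chkW3 chevE8 3 (nthN tabE8 3) (j + 0)) = true := by decide +kernel
theorem chkW3_E8_3_16 : allBelow 16 (fun j => chkW3 chevE8 3 (nthN tabE8 3) (j + 16)) = true := by decide +kernel
theorem chkW3_E8_3_32 : allBelow 16 (fun j => chkW3 chevE8 3 (nthN tabE8 3) (j + 32)) = true := by decide +kernel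
theorem chkW3_E8_3_48 : allBelow 16 (fun j => chkW3 chevE8 3 (nthN tabE8 3) (j + 48)) = true := by decide +kernel
theorem chkW3_E8_3_64 : allBelow 16 (fun j => chkW3 chevE8 3 (nthN tabE8 3) (j + 64)) = true := by decide +kernel
theorem chkW3_E8_3_80 : allBelow 8 (fun j => chkW3 chevE8 3 (nthN tabE8 3) (j + 80)) = true := by decide +kernel
theorem chkW3_E8_3_88 : allBelow 8 (fun j => chkW3 chevE8 3 (nthN tabE8 3) (j + 88)) = true := by decide +kernel
theorem chkW3_E8_3_96 : allBelow 8 (fun j => chkW3 chevE8 3 (nthN tabE8 3) (j + 96)) = true := by decide +kernel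
theorem chkW3_E8_3_104 : allBelow 8 (fun j => chkW3 chevE8 3 (nthN tabE8 3) (j + 104)) = true := by decide +kernel
theorem chkW3_E8_3_112 : allBelow 8 (fun j => chkW3 chevE8 3 (nthN tabE8 3) (j + 112)) = true := by decide +kernel
theorem chkW3_E8_3_120 : allBelow 8 (fun j => chkW3 chevE8 3 (nthN tabE8 3) (j + 120)) = true := by decide +kernel
theorem chkW3_E8_3_128 : allBelow 8 (fun j => chkW3 chevE8 3 (nthN tabE8 3) (j + 128)) = true := by decide +kernel
theorem chkW3_E8_3_136 : allBelow 8 (fun j => chkW3 chevE8 3 (nthN tabE8 3) (j + 136)) = true := by decide +kernel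
theorem chkW3_E8_3_144 : allBelow 8 (fun j => chkW3 chevE8 3 (nthN tabE8 3) (j + 144)) = true := by decide +kernel
theorem chkW3_E8_3_152 : allBelow 8 (fun j => chkW3 chevE8 3 (nthN tabE8 3) (j + 152)) = true := by decide +kernel
theorem chkW3_E8_3_160 : allBelow 8 (fun j => chkW3 chevE8 3 (nthN tabE8 3) (j + 160)) = true := by decide +kernel
theorem chkW3_E8_3_168 : allBelow 8 (fun j => chkW3 chevE8 3 (nthN tabE8 3) (j + 168)) = true := by decide +kernel
theorem chkW3_E8_3_176 : allBelow 8 (fun j => chkW3 chevE8 3 (nthN tabE8 3) (j + 176)) = true := by decide +kernel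
theorem chkW3_E8_3_184 : allBelow 8 (fun j => chkW3 chevE8 3 (nthN tabE8 3) (j + 184)) = true := by decide +kernel
theorem chkW3_E8_3_192 : allBelow 8 (fun j => chkW3 chevE8 3 (nthN tabE8 3) (j + 192)) = true := by decide +kernel
theorem chkW3_E8_3_200 : allBelow 8 (fun j => chkW3 chevE8 3 (nthN tabE8 3) (j + 200)) = true := by decide +kernel
theorem chkW3_E8_3_208 : allBelow 8 (fun j => chkW3 chevE8 3 (nthN tabE8 3) (j + 208)) = true := by decide +kernel
theorem chkW3_E8_3_216 : allBelow 8 (fun j => chkW3 chevE8 3 (nthN tabE8 3) (j + 216)) = true := by decide +kernel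
theorem chkW3_E8_3_224 : allBelow 8 (fun j => chkW3 chevE8 3 (nthN tabE8 3) (j + 224)) = true := by decide +kernel
theorem chkW3_E8_3_232 : allBelow 8 (fun j => chkW3 chevE8 3 (nthN tabE8 3) (j + 232)) = true := by decide +kernel

theorem chkW3_E8_3 (s : ℕ) (hs : s < 240) : chkW3 chevE8 3 (nthN tabE8 3) s = true := by
  rcases Nat.lt_or_ge s 16 with h0 | h0
  · exact chunkApplyN (p := chkW3 chevE8 3 (nthN tabE8 3)) (n := 16) (off := 0) chkW3_E8_3_0 s (by omega) (by omega)
  rcases Nat.lt_or_ge s 32 with h1 | h1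
  · exact chunkApplyN (p := chkW3 chevE8 3 (nthN tabE8 3)) (n := 16) (off := 16) chkW3_E8_3_16 s (by omega) (by omega)
  rcases Nat.lt_or_ge s 48 with h2 | h2
  · exact chunkApplyN (p := chkW3 chevE8 3 (nthN tabE8 3)) (n := 16) (off := 32) chkW3_E8_3_32 s (by omega) (by omega)
  rcases Nat.lt_or_ge s 64 with h3 | h3
  · exact chunkApplyN (p := chkW3 chevE8 3 (nthN tabE8 3)) (n := 16) (off := 48) chkW3_E8_3_48 s (by omega) (by omega)
  rcases Nat.lt_or_ge s 80 with h4 | h4
  · exact chunkApplyN (p := chkW3 chevE8 3 (nthN tabE8 3)) (n := 16) (off := 64) chkW3_E8_3_64 s (by omega) (by omega)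
  rcases Nat.lt_or_ge s 88 with h5 | h5
  · exact chunkApplyN (p := chkW3 chevE8 3 (nthN tabE8 3)) (n := 8) (off := 80) chkW3_E8_3_80 s (by omega) (by omega)
  rcases Nat.lt_or_ge s 96 with h6 | h6
  · exact chunkApplyN (p := chkW3 chevE8 3 (nthN tabE8 3)) (n := 8) (off := 88) chkW3_E8_3_88 s (by omega) (by omega)
  rcases Nat.lt_or_ge s 104 with h7 | h7
  · exact chunkApplyN (p := chkW3 chevE8 3 (nthN tabE8 3)) (n := 8) (off := 96) chkW3_E8_3_96 s (by omega) (by omega)
  rcases Nat.lt_or_ge s 112 with h8 | h8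
  · exact chunkApplyN (p := chkW3 chevE8 3 (nthN tabE8 3)) (n := 8) (off := 104) chkW3_E8_3_104 s (by omega) (by omega)
  rcases Nat.lt_or_ge s 120 with h9 | h9
  · exact chunkApplyN (p := chkW3 chevE8 3 (nthN tabE8 3)) (n := 8) (off := 112) chkW3_E8_3_112 s (by omega) (by omega)
  rcases Nat.lt_or_ge s 128 with h10 | h10
  · exact chunkApplyN (p := chkW3 chevE8 3 (nthN tabE8 3)) (n := 8) (off := 120) chkW3_E8_3_120 s (by omega) (by omega)
  rcases Nat.lt_or_ge s 136 with h11 | h11
  · exact chunkApplyN (p := chkW3 chevE8 3 (nthN tabE8 3)) (n := 8) (off := 128) chkW3_E8_3_128 s (by omega) (by omega)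
  rcases Nat.lt_or_ge s 144 with h12 | h12
  · exact chunkApplyN (p := chkW3 chevE8 3 (nthN tabE8 3)) (n := 8) (off := 136) chkW3_E8_3_136 s (by omega) (by omega)
  rcases Nat.lt_or_ge s 152 with h13 | h13
  · exact chunkApplyN (p := chkW3 chevE8 3 (nthN tabE8 3)) (n := 8) (off := 144) chkW3_E8_3_144 s (by omega) (by omega)
  rcases Nat.lt_or_ge s 160 with h14 | h14
  · exact chunkApplyN (p := chkW3 chevE8 3 (nthN tabE8 3)) (n := 8) (off := 152) chkW3_E8_3_152 s (by omega) (by omega)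
  rcases Nat.lt_or_ge s 168 with h15 | h15
  · exact chunkApplyN (p := chkW3 chevE8 3 (nthN tabE8 3)) (n := 8) (off := 160) chkW3_E8_3_160 s (by omega) (by omega)
  rcases Nat.lt_or_ge s 176 with h16 | h16
  · exact chunkApplyN (p := chkW3 chevE8 3 (nthN tabE8 3)) (n := 8) (off := 168) chkW3_E8_3_168 s (by omega) (by omega)
  rcases Nat.lt_or_ge s 184 with h17 | h17
  · exact chunkApplyN (p := chkW3 chevE8 3 (nthN tabE8 3)) (n := 8) (off := 176) chkW3_E8_3_176 s (by omega) (by omega)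
  rcases Nat.lt_or_ge s 192 with h18 | h18
  · exact chunkApplyN (p := chkW3 chevE8 3 (nthN tabE8 3)) (n := 8) (off := 184) chkW3_E8_3_184 s (by omega) (by omega)
  rcases Nat.lt_or_ge s 200 with h19 | h19
  · exact chunkApplyN (p := chkW3 chevE8 3 (nthN tabE8 3)) (n := 8) (off := 192) chkW3_E8_3_192 s (by omega) (by omega)
  rcases Nat.lt_or_ge s 208 with h20 | h20
  · exact chunkApplyN (p := chkW3 chevE8 3 (nthN tabE8 3)) (n := 8) (off := 200) chkW3_E8_3_200 s (by omega) (by omega)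
  rcases Nat.lt_or_ge s 216 with h21 | h21
  · exact chunkApplyN (p := chkW3 chevE8 3 (nthN tabE8 3)) (n := 8) (off := 208) chkW3_E8_3_208 s (by omega) (by omega)
  rcases Nat.lt_or_ge s 224 with h22 | h22
  · exact chunkApplyN (p := chkW3 chevE8 3 (nthN tabE8 3)) (n := 8) (off := 216) chkW3_E8_3_216 s (by omega) (by omega)
  rcases Nat.lt_or_ge s 232 with h23 | h23
  · exact chunkApplyN (p := chkW3 chevE8 3 (nthN tabE8 3)) (n := 8) (off := 224) chkW3_E8_3_224 s (by omega) (by omega)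
  exact chunkApplyN (p := chkW3 chevE8 3 (nthN tabE8 3)) (n := 8) (off := 232) chkW3_E8_3_232 s (by omega) (by omega)

end Cfsg.Agent.Helper18
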