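import Cfsg.Agent.Helper18.NGroup
import Cfsg.Agent.S1041

/-!
# Standard parabolic subgroups contain the root subgroups of their root subsystem (helper18)

`DescOK D`: table check that every negative root other than the `-p_j` can be moved towards a `-p_j` by a
fundamental reflection `w_j` with `j` in its support (the coefficient at `j` of the coroot strictly increases,
the others are unchanged). `xU_mem_parabolic`: for a negative root `r` of the subsystem `Φ_J`, the root
subgroup `X_r` lies in the parabolic subgroup `P_J`; `parabolicSubgroup_eq` is statement S1047.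
-/

set_option autoImplicit false

namespace Cfsg.Agent.Helper18

open Cfsg.Lie

/-- the coefficient of the coroot of `r` at the `k`-th fundamental coroot. -/
def cor (D : ChevalleyDatum) (r k : ℕ) : ℤ := (D.coroot.getD r #[]).getD k 0

/-- descent step for the negative root `r` along the fundamental reflection `w_j`. -/
def DescStep (D : ChevalleyDatum) (r j : ℕ) : Prop :=
  cor D r j < 0 ∧ D.IsNegRoot (wN D j r) ∧ cor D r j < cor D (wN D j r) j ∧ cor D (wN D j r) j ≤ 0 ∧
    ∀ k < D.rank, k ≠ j → cor D (wN D j r) k = cor D r k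

noncomputable instance (D : ChevalleyDatum) (r j : ℕ) : Decidable (DescStep D r j) :=
  inferInstanceAs (Decidable (_ ∧ _))

/-- every negative root is a `-p_j` or admits a descent step; the coroot of `-p_j` is `-h_j`. -/
def DescOK (D : ChevalleyDatum) : Prop :=
  (∀ r < D.nroots, D.IsNegRoot r → (∀ k < D.rank, cor D r k ≤ 0) ∧
    ((∃ j < D.rank, r = D.neg (D.simple j)) ∨ ∃ j < D.rank, DescStep D r j)) ∧
  ∀ j < D.rank, cor D (D.neg (D.simple j)) j ≠ 0 ∧
    ∀ i < D.rank, i ≠ j → cor D (D.neg (D.simple j)) i = 0

noncomputable instance (D : ChevalleyDatum) : Decidable (DescOK D) := inferInstanceAs (Decidable (_ ∧ _))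

set_option maxRecDepth 1000000 in
theorem descOK_G2 : DescOK chevG2 := by decide +kernel

set_option maxRecDepth 1000000 in
theorem descOK_B2 : DescOK chevB2 := by decide +kernel

set_option maxRecDepth 1000000 in
theorem descOK_D4 : DescOK chevD4 := by decide +kernel

set_option maxRecDepth 1000000 in
theorem descOK_F4 : DescOK chevF4 := by decide +kernel

set_option maxRecDepth 1000000 in
theorem descOK_E6 : DescOK chevE6 := by decide +kernel

set_option maxRecDepth 1000000 in
theorem descOK_E7 : DescOK chevE7 := by decide +kernel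

set_option maxRecDepth 1000000 in
theorem descOK_E8 : DescOK chevE8 := by decide +kernel

theorem descOK_all : ∀ D ∈ [chevG2, chevB2, chevD4, chevF4, chevE6, chevE7, chevE8], DescOK D := by
  intro D hD
  simp only [List.mem_cons, List.not_mem_nil, or_false] at hD
  rcases hD with rfl | rfl | rfl | rfl | rfl | rfl | rfl
  exacts [descOK_G2, descOK_B2, descOK_D4, descOK_F4, descOK_E6, descOK_E7, descOK_E8]

section

variable {F : Type*} [Field F] (D : ChevalleyDatum)

/-- the measure decreasing along descent steps. -/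
def negHeight (r : ℕ) : ℕ := ∑ k ∈ Finset.range D.rank, (cor D r k).natAbs

theorem reflectRoot_simple (i : ℕ) : D.reflectRoot i (D.simple i) = D.neg (D.simple i) := by
  unfold ChevalleyDatum.reflectRoot
  simp

theorem xU_neg_simple_mem (hD : D ∈ [chevG2, chevB2, chevD4, chevF4, chevE6, chevE7, chevE8])
    (K : Subgroup (GL D.Idx F)) (hU : D.posUnipotent F ≤ K) {j : ℕ} (hj : j < D.rank)
    (hn : nU D hD (D.simple j) (simple_lt D hD j hj) ∈ K) (t : F) :
    xU D hD (D.neg (D.simple j)) t ∈ K := by
  have h1 := nU_conj_xU (F := F) D hD hj (simple_lt D hD j hj) ((etaN D j (D.simple j) : F) * t)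
  rw [← mul_assoc, etaN_cast_mul_self, one_mul, reflectRoot_simple] at h1
  rw [← h1]
  refine mul_mem (mul_mem hn (hU ?_)) (inv_mem hn)
  exact Subgroup.subset_closure ⟨D.simple j, _, simple_pos_all D hD j hj, rfl⟩

/-- The root subgroups of the negative roots of `Φ_J` lie in every subgroup containing `U` and the `n_{p_j}`,
`j ∈ J`. -/
theorem xU_mem_of_inRootSub (hD : D ∈ [chevG2, chevB2, chevD4, chevF4, chevE6, chevE7, chevE8])
    (J : Set ℕ) (K : Subgroup (GL D.Idx F)) (hU : D.posUnipotent F ≤ K)
    (hn : ∀ j ∈ J, ∀ hj : j < D.rank, nU D hD (D.simple j) (simple_lt D hD j hj) ∈ K) :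
    ∀ (m r : ℕ), negHeight D r = m → D.IsNegRoot r → D.InRootSub J r → ∀ t : F, xU D hD r t ∈ K := by
  have hOK := descOK_all D hD
  intro m
  induction m using Nat.strong_induction_on with
  | _ m ih =>
    intro r hm hneg hJ t
    obtain ⟨hle, hcase⟩ := hOK.1 r hneg.1 hneg
    rcases hcase with ⟨j, hj, rfl⟩ | ⟨j, hj, hlt, hneg', hlt', hle', hrest⟩
    · have hjJ : j ∈ J := by
        by_contra hc
        exact (hOK.2 j hj).1 (hJ.2 j hj hc)
      exact xU_neg_simple_mem D hD K hU hj (hn j hjJ hj) t
    · have hjJ : j ∈ J := by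
        by_contra hc
        have := hJ.2 j hj hc
        have h0 : cor D r j = 0 := this
        omega
      have hw := wN_eq D hD j hj r hneg.1
      rw [hw] at hneg' hlt' hle' hrest
      obtain ⟨hwlt, _, _, hww, _⟩ := reflectRoot_spec D hD j hj r hneg.1
      have hJ' : D.InRootSub J (D.reflectRoot j r) := by
        refine ⟨hwlt, fun i hi hiJ => ?_⟩
        have hij : i ≠ j := fun h => hiJ (h ▸ hjJ)
        have := hrest i hi hij
        have h0 : cor D r i = 0 := hJ.2 i hi hiJ
        rw [h0] at this
        exact this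
      have hm' : negHeight D (D.reflectRoot j r) < m := by
        rw [← hm]
        unfold negHeight
        apply Finset.sum_lt_sum
        · intro k hk
          by_cases hkj : k = j
          · rw [hkj]; omega
          · rw [hrest k (Finset.mem_range.mp hk) hkj]
        · exact ⟨j, Finset.mem_range.mpr hj, by omega⟩
      have h1 := nU_conj_xU (F := F) D hD hj hwlt ((etaN D j (D.reflectRoot j r) : F) * t)
      rw [← mul_assoc, etaN_cast_mul_self, one_mul, hww] at h1
      rw [← h1]
      have hnj := hn j hjJ hj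
      exact mul_mem (mul_mem hnj (ih _ hm' _ rfl hneg' hJ' _)) (inv_mem hnj)

/-- `P_J = ⟨H, X_r : r ∈ Φ⁺ ∪ Φ_J⟩` (statement S1047). -/
theorem parabolicSubgroup_eq (hD : D ∈ [chevG2, chevB2, chevD4, chevF4, chevE6, chevE7, chevE8])
    (J : Set ℕ) :
    D.parabolicSubgroup F J = D.diagonalSubgroup F ⊔
      Subgroup.closure {g : GL D.Idx F | ∃ (r : ℕ) (t : F), (D.IsPosRoot r ∨ D.InRootSub J r) ∧
        (g : Matrix D.Idx D.Idx F) = D.x F r t} := by
  have hOK := descOK_all D hD
  apply le_antisymm
  · unfold ChevalleyDatum.parabolicSubgroup ChevalleyDatum.borelSubgroup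
    refine sup_le (sup_le ?_ le_sup_left) ?_
    · refine le_trans ?_ le_sup_right
      unfold ChevalleyDatum.posUnipotent
      apply Subgroup.closure_mono
      rintro g ⟨r, t, hr, hg⟩
      exact ⟨r, t, Or.inl hr, hg⟩
    · refine le_trans ?_ le_sup_right
      rw [Subgroup.closure_le]
      rintro g ⟨j, hjJ, hj, hg⟩
      have hp := simple_lt D hD j hj
      have hnp := (reflectRoot_spec D hD j hj _ hp).2.1
      have e : g = xU D hD (D.simple j) 1 * xU D hD (D.neg (D.simple j)) (-(1 : F)⁻¹) *
          xU D hD (D.simple j) 1 := by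
        apply Units.ext
        rw [hg, Units.val_mul, Units.val_mul, xU_val, xU_val, nMat_eq_x]
      rw [e]
      have h1 : xU D hD (D.simple j) (1 : F) ∈ Subgroup.closure {g : GL D.Idx F | ∃ (r : ℕ) (t : F),
          (D.IsPosRoot r ∨ D.InRootSub J r) ∧ (g : Matrix D.Idx D.Idx F) = D.x F r t} :=
        Subgroup.subset_closure ⟨_, _, Or.inl (simple_pos_all D hD j hj), rfl⟩
      have h2 : xU D hD (D.neg (D.simple j)) (-(1 : F)⁻¹) ∈ Subgroup.closure {g : GL D.Idx F |
          ∃ (r : ℕ) (t : F), (D.IsPosRoot r ∨ D.InRootSub J r) ∧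
            (g : Matrix D.Idx D.Idx F) = D.x F r t} := by
        refine Subgroup.subset_closure ⟨_, _, Or.inr ⟨hnp, fun i hi hiJ => ?_⟩, rfl⟩
        exact (hOK.2 j hj).2 i hi (fun h => hiJ (h ▸ hjJ))
      exact mul_mem (mul_mem h1 h2) h1
  · have hBP : D.borelSubgroup F ≤ D.parabolicSubgroup F J := by
      unfold ChevalleyDatum.parabolicSubgroup
      exact le_sup_left
    have hUP : D.posUnipotent F ≤ D.parabolicSubgroup F J := by
      refine le_trans ?_ hBP
      unfold ChevalleyDatum.borelSubgroup
      exact le_sup_left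
    have hHP : D.diagonalSubgroup F ≤ D.parabolicSubgroup F J := by
      refine le_trans ?_ hBP
      unfold ChevalleyDatum.borelSubgroup
      exact le_sup_right
    refine sup_le hHP ?_
    rw [Subgroup.closure_le]
    rintro g ⟨r, t, hr, hg⟩
    have hnP : ∀ j ∈ J, ∀ hj : j < D.rank,
        nU D hD (D.simple j) (simple_lt D hD j hj) ∈ D.parabolicSubgroup F J := by
      intro j hjJ hj
      unfold ChevalleyDatum.parabolicSubgroup
      exact Subgroup.mem_sup_right (Subgroup.subset_closure ⟨j, hjJ, hj, rfl⟩)
    rcases hr with hr | hr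
    · exact hUP (Subgroup.subset_closure ⟨r, t, hr, hg⟩)
    · rcases Cfsg.Agent.S1041.posneg_all D hD r hr.1 with hp | hn
      · exact hUP (Subgroup.subset_closure ⟨r, t, hp, hg⟩)
      · have e : g = xU D hD r t := Units.ext hg
        rw [e]
        exact xU_mem_of_inRootSub D hD J _ hUP hnP _ r rfl hn hr t

end

end Cfsg.Agent.Helper18
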