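import Mathlib

set_option autoImplicit false

/-!
# CALL S1390 (helper24), piece NIL2 (helper18, a double): two abelian subgroups normalizing each other
generate a nilpotent group (of class at most two).
-/

namespace Cfsg.Agent.Helper18

open Cfsg Subgroup

universe u

variable {G : Type u} [Group G] [Finite G]

/-- NIL2 (pure). Two abelian subgroups normalizing each other generate a nilpotent group. -/
theorem bg90_sup_nilpotent {A B : Subgroup G} (hA : ∀ a ∈ A, ∀ b ∈ A, a * b = b * a)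
    (hB : ∀ a ∈ B, ∀ b ∈ B, a * b = b * a) (hAB : A ≤ normalizer (B : Set G))
    (hBA : B ≤ normalizer (A : Set G)) : Group.IsNilpotent ↥(A ⊔ B) := by
  classical
  -- `A ⊓ B` is central in `A ⊔ B`
  have hZc : ∀ z ∈ A ⊓ B, ∀ h ∈ A ⊔ B, z * h = h * z := by
    intro z hz
    have h1 : A ≤ centralizer ({z} : Set G) := by
      intro a ha
      rw [mem_centralizer_iff]
      intro w hw
      rw [Set.mem_singleton_iff] at hw
      subst hw
      exact hA _ hz.1 _ ha
    have h2 : B ≤ centralizer ({z} : Set G) := by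
      intro a ha
      rw [mem_centralizer_iff]
      intro w hw
      rw [Set.mem_singleton_iff] at hw
      subst hw
      exact hB _ hz.2 _ ha
    intro h hh
    have h3 := (sup_le h1 h2) hh
    rw [mem_centralizer_iff] at h3
    exact h3 z rfl
  have hcl : A ⊔ B = closure ((A : Set G) ∪ B) := by
    rw [Subgroup.closure_union, Subgroup.closure_eq, Subgroup.closure_eq]
  -- commutators of generators lie in `A ⊓ B`
  have gen : ∀ x ∈ (A : Set G) ∪ B, ∀ y ∈ (A : Set G) ∪ B, x * y * x⁻¹ * y⁻¹ ∈ A ⊓ B := by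
    rintro x (hx | hx) y (hy | hy)
    · have e : x * y * x⁻¹ * y⁻¹ = 1 := by
        rw [hA x hx y hy]
        group
      rw [e]
      exact one_mem _
    · rw [Subgroup.mem_inf]
      refine ⟨?_, ?_⟩
      · have h1 : y * x⁻¹ * y⁻¹ ∈ A := (mem_normalizer_iff.mp (hBA hy) x⁻¹).mp (inv_mem hx)
        have e : x * y * x⁻¹ * y⁻¹ = x * (y * x⁻¹ * y⁻¹) := by group
        rw [e]
        exact mul_mem hx h1
      · have h1 : x * y * x⁻¹ ∈ B := (mem_normalizer_iff.mp (hAB hx) y).mp hy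
        exact mul_mem h1 (inv_mem hy)
    · rw [Subgroup.mem_inf]
      refine ⟨?_, ?_⟩
      · have h1 : x * y * x⁻¹ ∈ A := (mem_normalizer_iff.mp (hBA hx) y).mp hy
        exact mul_mem h1 (inv_mem hy)
      · have h1 : y * x⁻¹ * y⁻¹ ∈ B := (mem_normalizer_iff.mp (hAB hy) x⁻¹).mp (inv_mem hx)
        have e : x * y * x⁻¹ * y⁻¹ = x * (y * x⁻¹ * y⁻¹) := by group
        rw [e]
        exact mul_mem hx h1
    · have e : x * y * x⁻¹ * y⁻¹ = 1 := by
        rw [hB x hx y hy]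
        group
      rw [e]
      exact one_mem _
  -- closure properties of `P x y := x y x⁻¹ y⁻¹ ∈ A ⊓ B`
  have mulL : ∀ x x' y : G, x ∈ A ⊔ B → x * y * x⁻¹ * y⁻¹ ∈ A ⊓ B → x' * y * x'⁻¹ * y⁻¹ ∈ A ⊓ B →
      (x * x') * y * (x * x')⁻¹ * y⁻¹ ∈ A ⊓ B := by
    intro x x' y hx h1 h2
    have e : (x * x') * y * (x * x')⁻¹ * y⁻¹ =
        x * (x' * y * x'⁻¹ * y⁻¹) * x⁻¹ * (x * y * x⁻¹ * y⁻¹) := by group
    have e2 : x * (x' * y * x'⁻¹ * y⁻¹) * x⁻¹ = x' * y * x'⁻¹ * y⁻¹ := by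
      rw [← hZc _ h2 x hx]
      group
    rw [e, e2]
    exact mul_mem h2 h1
  have invL : ∀ x y : G, x ∈ A ⊔ B → x * y * x⁻¹ * y⁻¹ ∈ A ⊓ B → x⁻¹ * y * x⁻¹⁻¹ * y⁻¹ ∈ A ⊓ B := by
    intro x y hx h1
    have e : x⁻¹ * y * x⁻¹⁻¹ * y⁻¹ = x⁻¹ * (x * y * x⁻¹ * y⁻¹)⁻¹ * x := by group
    have e2 : x⁻¹ * (x * y * x⁻¹ * y⁻¹)⁻¹ * x = (x * y * x⁻¹ * y⁻¹)⁻¹ := by
      rw [mul_assoc, hZc _ (inv_mem h1) x hx]
      group
    rw [e, e2]
    exact inv_mem h1
  have symm : ∀ x y : G, x * y * x⁻¹ * y⁻¹ ∈ A ⊓ B → y * x * y⁻¹ * x⁻¹ ∈ A ⊓ B := by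
    intro x y h
    have e : y * x * y⁻¹ * x⁻¹ = (x * y * x⁻¹ * y⁻¹)⁻¹ := by group
    rw [e]
    exact inv_mem h
  have key : ∀ x ∈ closure ((A : Set G) ∪ B), ∀ y ∈ closure ((A : Set G) ∪ B),
      x * y * x⁻¹ * y⁻¹ ∈ A ⊓ B := by
    intro x hx y hy
    induction hx, hy using closure_induction₂ with
    | mem x y hx hy => exact gen x hx y hy
    | one_left y hy =>
      have e : (1 : G) * y * 1⁻¹ * y⁻¹ = 1 := by group
      rw [e]
      exact one_mem _
    | one_right x hx =>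
      have e : x * 1 * x⁻¹ * (1 : G)⁻¹ = 1 := by group
      rw [e]
      exact one_mem _
    | mul_left x x' y hx hx' hy h1 h2 =>
      exact mulL x x' y (hcl ▸ hx) h1 h2
    | mul_right y y' x hy hy' hx h1 h2 =>
      exact symm _ _ (mulL y y' x (hcl ▸ hy) (symm _ _ h1) (symm _ _ h2))
    | inv_left x y hx hy h1 =>
      exact invL x y (hcl ▸ hx) h1
    | inv_right x y hx hy h1 =>
      exact symm _ _ (invL y x (hcl ▸ hy) (symm _ _ h1))
  -- the quotient by the centre is commutative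
  have hcomm : ∀ x y : ↥(A ⊔ B), (x * y)⁻¹ * (y * x) ∈ center ↥(A ⊔ B) := by
    intro x y
    rw [Subgroup.mem_center_iff]
    intro h
    apply Subtype.ext
    have h1 := key (y : G)⁻¹ (hcl ▸ inv_mem y.2) (x : G)⁻¹ (hcl ▸ inv_mem x.2)
    have h2 := hZc _ h1 h h.2
    have e : ((y : G)⁻¹ * (x : G)⁻¹ * (y : G)⁻¹⁻¹ * (x : G)⁻¹⁻¹) = ((x : G) * y)⁻¹ * (y * x) := by group
    rw [e] at h2
    simp only [Subgroup.coe_mul, Subgroup.coe_inv]
    exact h2.symm
  let inst : CommGroup (↥(A ⊔ B) ⧸ center ↥(A ⊔ B)) :=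
    { (inferInstance : Group (↥(A ⊔ B) ⧸ center ↥(A ⊔ B))) with
      mul_comm := by
        intro a b
        induction a using QuotientGroup.induction_on with
        | H x =>
          induction b using QuotientGroup.induction_on with
          | H y =>
            rw [← QuotientGroup.mk_mul, ← QuotientGroup.mk_mul, QuotientGroup.eq]
            exact hcomm x y }
  exact Group.of_quotient_center_nilpotent (@CommGroup.isNilpotent _ inst)

end Cfsg.Agent.Helper18
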