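import Cfsg.Agent.Helper18.F4Tor1

/-!
# Conjugation of root elements of `F₄` by `n_24(a)`, `n_27(a)`, `n_45(a₃)` (helper18)

Symbolic checks of `n_γ(t) x_β(u) = x_β'(± t^k u) n_γ(t)` for the pairs needed, and the resulting
relations `Mv` for `n_24(a)`, `n_27(a) n_24(a)` and `n_45(a₃) n_27(a) n_24(a)`.
-/

set_option autoImplicit false
set_option maxRecDepth 1000000

namespace Cfsg.Agent.Helper18

open Cfsg Cfsg.Lie Cfsg.Agent.Helper36 Cfsg.Agent.Helper17

theorem f4_cj_24_1_chk : checkEqW chevF4 (nWordS chevF4 24 ++ [(1, uR)])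
    ((0, [(1, -1, 1, 0)]) :: nWordS chevF4 24) = true := by decide +kernel

theorem f4_cj_24_2_chk : checkEqW chevF4 (nWordS chevF4 24 ++ [(2, uR)])
    ((2, [(1, 0, 1, 0)]) :: nWordS chevF4 24) = true := by decide +kernel

theorem f4_cj_24_4_chk : checkEqW chevF4 (nWordS chevF4 24 ++ [(4, uR)])
    ((4, [(1, 0, 1, 0)]) :: nWordS chevF4 24) = true := by decide +kernel

theorem f4_cj_24_5_chk : checkEqW chevF4 (nWordS chevF4 24 ++ [(5, uR)])
    ((6, [(-1, 1, 1, 0)]) :: nWordS chevF4 24) = true := by decide +kernel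

theorem f4_cj_24_16_chk : checkEqW chevF4 (nWordS chevF4 24 ++ [(16, uR)])
    ((17, [(-1, 1, 1, 0)]) :: nWordS chevF4 24) = true := by decide +kernel

theorem f4_cj_24_20_chk : checkEqW chevF4 (nWordS chevF4 24 ++ [(20, uR)])
    ((20, [(1, 0, 1, 0)]) :: nWordS chevF4 24) = true := by decide +kernel

theorem f4_cj_24_21_chk : checkEqW chevF4 (nWordS chevF4 24 ++ [(21, uR)])
    ((22, [(-1, 1, 1, 0)]) :: nWordS chevF4 24) = true := by decide +kernel

theorem f4_cj_24_26_chk : checkEqW chevF4 (nWordS chevF4 24 ++ [(26, uR)])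
    ((25, [(-1, -1, 1, 0)]) :: nWordS chevF4 24) = true := by decide +kernel

theorem f4_cj_24_27_chk : checkEqW chevF4 (nWordS chevF4 24 ++ [(27, uR)])
    ((27, [(1, 0, 1, 0)]) :: nWordS chevF4 24) = true := by decide +kernel

theorem f4_cj_24_31_chk : checkEqW chevF4 (nWordS chevF4 24 ++ [(31, uR)])
    ((30, [(-1, -1, 1, 0)]) :: nWordS chevF4 24) = true := by decide +kernel

theorem f4_cj_24_42_chk : checkEqW chevF4 (nWordS chevF4 24 ++ [(42, uR)])
    ((41, [(-1, -1, 1, 0)]) :: nWordS chevF4 24) = true := by decide +kernel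

theorem f4_cj_24_43_chk : checkEqW chevF4 (nWordS chevF4 24 ++ [(43, uR)])
    ((43, [(1, 0, 1, 0)]) :: nWordS chevF4 24) = true := by decide +kernel

theorem f4_cj_24_45_chk : checkEqW chevF4 (nWordS chevF4 24 ++ [(45, uR)])
    ((45, [(1, 0, 1, 0)]) :: nWordS chevF4 24) = true := by decide +kernel

theorem f4_cj_24_46_chk : checkEqW chevF4 (nWordS chevF4 24 ++ [(46, uR)])
    ((47, [(1, 1, 1, 0)]) :: nWordS chevF4 24) = true := by decide +kernel

theorem f4_cj_27_0_chk : checkEqW chevF4 (nWordS chevF4 27 ++ [(0, uR)])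
    ((0, [(1, 0, 1, 0)]) :: nWordS chevF4 27) = true := by decide +kernel

theorem f4_cj_27_2_chk : checkEqW chevF4 (nWordS chevF4 27 ++ [(2, uR)])
    ((4, [(1, 2, 1, 0)]) :: nWordS chevF4 27) = true := by decide +kernel

theorem f4_cj_27_4_chk : checkEqW chevF4 (nWordS chevF4 27 ++ [(4, uR)])
    ((2, [(1, -2, 1, 0)]) :: nWordS chevF4 27) = true := by decide +kernel

theorem f4_cj_27_6_chk : checkEqW chevF4 (nWordS chevF4 27 ++ [(6, uR)])
    ((6, [(1, 0, 1, 0)]) :: nWordS chevF4 27) = true := by decide +kernel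

theorem f4_cj_27_17_chk : checkEqW chevF4 (nWordS chevF4 27 ++ [(17, uR)])
    ((22, [(-1, 2, 1, 0)]) :: nWordS chevF4 27) = true := by decide +kernel

theorem f4_cj_27_22_chk : checkEqW chevF4 (nWordS chevF4 27 ++ [(22, uR)])
    ((17, [(-1, -2, 1, 0)]) :: nWordS chevF4 27) = true := by decide +kernel

theorem f4_cj_27_25_chk : checkEqW chevF4 (nWordS chevF4 27 ++ [(25, uR)])
    ((30, [(-1, 2, 1, 0)]) :: nWordS chevF4 27) = true := by decide +kernel

theorem f4_cj_27_30_chk : checkEqW chevF4 (nWordS chevF4 27 ++ [(30, uR)])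
    ((25, [(-1, -2, 1, 0)]) :: nWordS chevF4 27) = true := by decide +kernel

theorem f4_cj_27_41_chk : checkEqW chevF4 (nWordS chevF4 27 ++ [(41, uR)])
    ((41, [(1, 0, 1, 0)]) :: nWordS chevF4 27) = true := by decide +kernel

theorem f4_cj_27_43_chk : checkEqW chevF4 (nWordS chevF4 27 ++ [(43, uR)])
    ((45, [(1, 2, 1, 0)]) :: nWordS chevF4 27) = true := by decide +kernel

theorem f4_cj_27_45_chk : checkEqW chevF4 (nWordS chevF4 27 ++ [(45, uR)])
    ((43, [(1, -2, 1, 0)]) :: nWordS chevF4 27) = true := by decide +kernel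

theorem f4_cj_27_47_chk : checkEqW chevF4 (nWordS chevF4 27 ++ [(47, uR)])
    ((47, [(1, 0, 1, 0)]) :: nWordS chevF4 27) = true := by decide +kernel

theorem f4_cj_45_0_chk : checkEqW chevF4 (nWordS chevF4 45 ++ [(0, uR)])
    ((21, [(1, 1, 1, 0)]) :: nWordS chevF4 45) = true := by decide +kernel

theorem f4_cj_45_6_chk : checkEqW chevF4 (nWordS chevF4 45 ++ [(6, uR)])
    ((31, [(1, 1, 1, 0)]) :: nWordS chevF4 45) = true := by decide +kernel

theorem f4_cj_45_17_chk : checkEqW chevF4 (nWordS chevF4 45 ++ [(17, uR)])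
    ((42, [(1, 1, 1, 0)]) :: nWordS chevF4 45) = true := by decide +kernel

theorem f4_cj_45_22_chk : checkEqW chevF4 (nWordS chevF4 45 ++ [(22, uR)])
    ((1, [(-1, -1, 1, 0)]) :: nWordS chevF4 45) = true := by decide +kernel

theorem f4_cj_45_25_chk : checkEqW chevF4 (nWordS chevF4 45 ++ [(25, uR)])
    ((46, [(-1, 1, 1, 0)]) :: nWordS chevF4 45) = true := by decide +kernel

theorem f4_cj_45_30_chk : checkEqW chevF4 (nWordS chevF4 45 ++ [(30, uR)])
    ((5, [(1, -1, 1, 0)]) :: nWordS chevF4 45) = true := by decide +kernel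

theorem f4_cj_45_41_chk : checkEqW chevF4 (nWordS chevF4 45 ++ [(41, uR)])
    ((16, [(1, -1, 1, 0)]) :: nWordS chevF4 45) = true := by decide +kernel

theorem f4_cj_45_47_chk : checkEqW chevF4 (nWordS chevF4 45 ++ [(47, uR)])
    ((26, [(1, -1, 1, 0)]) :: nWordS chevF4 45) = true := by decide +kernel

section

variable {F : Type*} [Field F] (hX : XAdd chevF4 F) (a a3 : F) (ha : a ≠ 0) (ha3 : a3 ≠ 0)

include ha

theorem f4_mv1_27 : Mv hX (nGL hX 24 a) 27 27 (1) :=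
  (mv_of_chk hX 24 27 27 (1) (0) f4_cj_24_27_chk a ha).congr (by push_cast; first | done | field_simp)

theorem f4_mv1_20 : Mv hX (nGL hX 24 a) 20 20 (1) :=
  (mv_of_chk hX 24 20 20 (1) (0) f4_cj_24_20_chk a ha).congr (by push_cast; first | done | field_simp)

theorem f4_mv2_45 : Mv hX (nGL hX 27 a * nGL hX 24 a) 45 43 ((a * a)⁻¹) :=
  ((mv_of_chk hX 27 45 43 (1) (-2) f4_cj_27_45_chk a ha).mul
    (mv_of_chk hX 24 45 45 (1) (0) f4_cj_24_45_chk a ha)).congr (by push_cast; first | done | field_simp)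

theorem f4_mv2_2 : Mv hX (nGL hX 27 a * nGL hX 24 a) 2 4 (a * a) :=
  ((mv_of_chk hX 27 2 4 (1) (2) f4_cj_27_2_chk a ha).mul
    (mv_of_chk hX 24 2 2 (1) (0) f4_cj_24_2_chk a ha)).congr (by push_cast; first | done | field_simp)

theorem f4_mv2_43 : Mv hX (nGL hX 27 a * nGL hX 24 a) 43 45 (a * a) :=
  ((mv_of_chk hX 27 43 45 (1) (2) f4_cj_27_43_chk a ha).mul
    (mv_of_chk hX 24 43 43 (1) (0) f4_cj_24_43_chk a ha)).congr (by push_cast; first | done | field_simp)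

theorem f4_mv2_4 : Mv hX (nGL hX 27 a * nGL hX 24 a) 4 2 ((a * a)⁻¹) :=
  ((mv_of_chk hX 27 4 2 (1) (-2) f4_cj_27_4_chk a ha).mul
    (mv_of_chk hX 24 4 4 (1) (0) f4_cj_24_4_chk a ha)).congr (by push_cast; first | done | field_simp)

include ha3

theorem f4_mv3_26 : Mv hX (nGL hX 45 a3 * (nGL hX 27 a * nGL hX 24 a)) 26 5 (a * a3⁻¹) :=
  ((mv_of_chk hX 45 30 5 (1) (-1) f4_cj_45_30_chk a3 ha3).mul
    ((mv_of_chk hX 27 25 30 (-1) (2) f4_cj_27_25_chk a ha).mul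
      (mv_of_chk hX 24 26 25 (-1) (-1) f4_cj_24_26_chk a ha))).congr (by push_cast; first | done | field_simp)

theorem f4_mv3_21 : Mv hX (nGL hX 45 a3 * (nGL hX 27 a * nGL hX 24 a)) 21 42 (a3 * a⁻¹) :=
  ((mv_of_chk hX 45 17 42 (1) (1) f4_cj_45_17_chk a3 ha3).mul
    ((mv_of_chk hX 27 22 17 (-1) (-2) f4_cj_27_22_chk a ha).mul
      (mv_of_chk hX 24 21 22 (-1) (1) f4_cj_24_21_chk a ha))).congr (by push_cast; first | done | field_simp)

theorem f4_mv3_5 : Mv hX (nGL hX 45 a3 * (nGL hX 27 a * nGL hX 24 a)) 5 31 (-(a * a3)) :=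
  ((mv_of_chk hX 45 6 31 (1) (1) f4_cj_45_6_chk a3 ha3).mul
    ((mv_of_chk hX 27 6 6 (1) (0) f4_cj_27_6_chk a ha).mul
      (mv_of_chk hX 24 5 6 (-1) (1) f4_cj_24_5_chk a ha))).congr (by push_cast; first | done | field_simp)

theorem f4_mv3_42 : Mv hX (nGL hX 45 a3 * (nGL hX 27 a * nGL hX 24 a)) 42 16 (-(a * a3)⁻¹) :=
  ((mv_of_chk hX 45 41 16 (1) (-1) f4_cj_45_41_chk a3 ha3).mul
    ((mv_of_chk hX 27 41 41 (1) (0) f4_cj_27_41_chk a ha).mul
      (mv_of_chk hX 24 42 41 (-1) (-1) f4_cj_24_42_chk a ha))).congr (by push_cast; first | done | field_simp)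

theorem f4_mv3_31 : Mv hX (nGL hX 45 a3 * (nGL hX 27 a * nGL hX 24 a)) 31 46 (-(a3 * (a * a * a)⁻¹)) :=
  ((mv_of_chk hX 45 25 46 (-1) (1) f4_cj_45_25_chk a3 ha3).mul
    ((mv_of_chk hX 27 30 25 (-1) (-2) f4_cj_27_30_chk a ha).mul
      (mv_of_chk hX 24 31 30 (-1) (-1) f4_cj_24_31_chk a ha))).congr (by push_cast; first | done | field_simp)

theorem f4_mv3_16 : Mv hX (nGL hX 45 a3 * (nGL hX 27 a * nGL hX 24 a)) 16 1 (-(a * a * a * a3⁻¹)) :=
  ((mv_of_chk hX 45 22 1 (-1) (-1) f4_cj_45_22_chk a3 ha3).mul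
    ((mv_of_chk hX 27 17 22 (-1) (2) f4_cj_27_17_chk a ha).mul
      (mv_of_chk hX 24 16 17 (-1) (1) f4_cj_24_16_chk a ha))).congr (by push_cast; first | done | field_simp)

theorem f4_mv3_46 : Mv hX (nGL hX 45 a3 * (nGL hX 27 a * nGL hX 24 a)) 46 26 (a * a3⁻¹) :=
  ((mv_of_chk hX 45 47 26 (1) (-1) f4_cj_45_47_chk a3 ha3).mul
    ((mv_of_chk hX 27 47 47 (1) (0) f4_cj_27_47_chk a ha).mul
      (mv_of_chk hX 24 46 47 (1) (1) f4_cj_24_46_chk a ha))).congr (by push_cast; first | done | field_simp)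

theorem f4_mv3_1 : Mv hX (nGL hX 45 a3 * (nGL hX 27 a * nGL hX 24 a)) 1 21 (a3 * a⁻¹) :=
  ((mv_of_chk hX 45 0 21 (1) (1) f4_cj_45_0_chk a3 ha3).mul
    ((mv_of_chk hX 27 0 0 (1) (0) f4_cj_27_0_chk a ha).mul
      (mv_of_chk hX 24 1 0 (1) (-1) f4_cj_24_1_chk a ha))).congr (by push_cast; first | done | field_simp)

end

end Cfsg.Agent.Helper18
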