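import Cfsg.Agent.Helper18.GAut3

/-!
# All the diagram symmetries of E₆ and D₄: tables and sign checks (helper18)

Generated by `scratch/gaut_gen2.py`: the signed permutations of the Chevalley basis induced by the diagram
symmetries not in `GAutTab`, and for every symmetry the checks `chkGRoots` (signs on all the root elements)
and `chkPermRoot` (the root permutation of the table is `permRootL`).
-/

set_option autoImplicit false

namespace Cfsg.Agent.Helper18

open Cfsg.Lie

/-- the signed permutation of the diagram symmetry [0, 1, 2, 3, 4, 5] of E6. -/
def gautP_E6i : ℕ := 11388903671395595384236493830188154616425329746605250499209440206892341970523109169461110843247844723917585425579953416701656589474334632965680419732843138114090393832975094062307118453309085145165748675593905552658536071243117643874217711884377683470805444922276361338435722073993582434624579303846049686585038633771316952849244769421772735836940384920171779561882002784256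

/-- its inverse. -/
def gautQ_E6i : ℕ := 11388903671395595384236493830188154616425329746605250499209440206892341970523109169461110843247844723917585425579953416701656589474334632965680419732843138114090393832975094062307118453309085145165748675593905552658536071243117643874217711884377683470805444922276361338435722073993582434624579303846049686585038633771316952849244769421772735836940384920171779561882002784256

theorem gaut_chk_E6i : chkGAll chevE6 gautP_E6i gautQ_E6i [0, 1, 2, 3, 4, 5] [0, 1, 2, 3, 4, 5] = true := by
  decide +kernel

theorem gaut_roots_E6i : chkGRoots chevE6 gautP_E6i = true := by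
  decide +kernel

theorem gaut_perm_E6i : chkPermRoot chevE6 gautP_E6i [0, 1, 2, 3, 4, 5] = true := by
  decide +kernel

theorem gaut_roots_E6 : chkGRoots chevE6 gautP_E6 = true := by
  decide +kernel

theorem gaut_perm_E6 : chkPermRoot chevE6 gautP_E6 [5, 1, 4, 3, 2, 0] = true := by
  decide +kernel

/-- the signed permutation of the diagram symmetry [0, 1, 2, 3] of D4. -/
def gautP_D4i : ℕ := 598905454036266930686586409205665249917577280293155214716817819519526430610994147997803477379007465412769204851846498965126522208256

/-- its inverse. -/
def gautQ_D4i : ℕ := 598905454036266930686586409205665249917577280293155214716817819519526430610994147997803477379007465412769204851846498965126522208256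

theorem gaut_chk_D4i : chkGAll chevD4 gautP_D4i gautQ_D4i [0, 1, 2, 3] [0, 1, 2, 3] = true := by
  decide +kernel

theorem gaut_roots_D4i : chkGRoots chevD4 gautP_D4i = true := by
  decide +kernel

theorem gaut_perm_D4i : chkPermRoot chevD4 gautP_D4i [0, 1, 2, 3] = true := by
  decide +kernel

/-- the signed permutation of the diagram symmetry [0, 1, 3, 2] of D4. -/
def gautP_D4t23 : ℕ := 598905454031102509734424984815311831859742570141130775186215222673739487794327275881924570998659724817961013712562798043728701423616

/-- its inverse. -/
def gautQ_D4t23 : ℕ := 598905454031102509734424984815311831859742570141130775186215222673739487794327275881924570998659724817961013712562798043728701423616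

theorem gaut_chk_D4t23 : chkGAll chevD4 gautP_D4t23 gautQ_D4t23 [0, 1, 3, 2] [0, 1, 3, 2] = true := by
  decide +kernel

theorem gaut_roots_D4t23 : chkGRoots chevD4 gautP_D4t23 = true := by
  decide +kernel

theorem gaut_perm_D4t23 : chkPermRoot chevD4 gautP_D4t23 [0, 1, 3, 2] = true := by
  decide +kernel

/-- the signed permutation of the diagram symmetry [2, 1, 0, 3] of D4. -/
def gautP_D4t02 : ℕ := 598905454036266733673549200988353945664429820766925369106106166497867221636977077338624714104720993803560514193549804283563111219204

/-- its inverse. -/
def gautQ_D4t02 : ℕ := 598905454036266733673549200988353945664429820766925369106106166497867221636977077338624714104720993803560514193549804283563111219204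

theorem gaut_chk_D4t02 : chkGAll chevD4 gautP_D4t02 gautQ_D4t02 [2, 1, 0, 3] [2, 1, 0, 3] = true := by
  decide +kernel

theorem gaut_roots_D4t02 : chkGRoots chevD4 gautP_D4t02 = true := by
  decide +kernel

theorem gaut_perm_D4t02 : chkPermRoot chevD4 gautP_D4t02 [2, 1, 0, 3] = true := by
  decide +kernel

theorem gaut_roots_D4a : chkGRoots chevD4 gautP_D4a = true := by
  decide +kernel

theorem gaut_perm_D4a : chkPermRoot chevD4 gautP_D4a [2, 1, 3, 0] = true := by
  decide +kernel

theorem gaut_roots_D4b : chkGRoots chevD4 gautP_D4b = true := by
  decide +kernel

theorem gaut_perm_D4b : chkPermRoot chevD4 gautP_D4b [3, 1, 0, 2] = true := by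
  decide +kernel

/-- the signed permutation of the diagram symmetry [3, 1, 2, 0] of D4. -/
def gautP_D4t03 : ℕ := 598905454018191181535769350683069395463514038673028536382509148335540006303751220006813688581568217975620375871422886203525091688454

/-- its inverse. -/
def gautQ_D4t03 : ℕ := 598905454018191181535769350683069395463514038673028536382509148335540006303751220006813688581568217975620375871422886203525091688454

theorem gaut_chk_D4t03 : chkGAll chevD4 gautP_D4t03 gautQ_D4t03 [3, 1, 2, 0] [3, 1, 2, 0] = true := by
  decide +kernel

theorem gaut_roots_D4t03 : chkGRoots chevD4 gautP_D4t03 = true := by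
  decide +kernel

theorem gaut_perm_D4t03 : chkPermRoot chevD4 gautP_D4t03 [3, 1, 2, 0] = true := by
  decide +kernel

end Cfsg.Agent.Helper18
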