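import Cfsg.Agent.Helper18.HCheck
import Cfsg.Prelude.Def_ChevE8

set_option autoImplicit false
set_option maxRecDepth 1000000

namespace Cfsg.Agent.Helper18

open Cfsg.Lie

theorem chkH_E8_0 : allBelow 20 (fun i => chkH chevE8 (i + 0)) = true := by decide +kernel
theorem chkH_E8_20 : allBelow 20 (fun i => chkH chevE8 (i + 20)) = true := by decide +kernel
theorem chkH_E8_40 : allBelow 20 (fun i => chkH chevE8 (i + 40)) = true := by decide +kernel

end Cfsg.Agent.Helper18
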