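import Cfsg.Agent.Helper18.HSmall
import Cfsg.Agent.Helper18.HE7
import Cfsg.Agent.Helper18.HE8a
import Cfsg.Agent.Helper18.HE8b
import Cfsg.Agent.Helper18.HE8c
import Cfsg.Agent.Helper18.HE8d

/-!
# `chkH` holds for all roots of the seven data (helper18)
-/

set_option autoImplicit false

namespace Cfsg.Agent.Helper18

open Cfsg.Lie

theorem chunk_apply {p : ℕ → Bool} {n off : ℕ} (h : allBelow n (fun i => p (i + off)) = true) (r : ℕ)
    (h1 : off ≤ r) (h2 : r < off + n) : p r = true := by
  have := (allBelow_iff _ _).mp h (r - off) (by omega)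
  rwa [Nat.sub_add_cancel h1] at this

theorem chkH_E7 (r : ℕ) (hr : r < 126) : chkH chevE7 r = true := by
  by_cases h1 : r < 42
  · exact chunk_apply chkH_E7_0 r (by omega) (by omega)
  · by_cases h2 : r < 84
    · exact chunk_apply chkH_E7_42 r (by omega) (by omega)
    · exact chunk_apply chkH_E7_84 r (by omega) (by omega)

theorem chkH_E8 (r : ℕ) (hr : r < 240) : chkH chevE8 r = true := by
  by_cases h1 : r < 20
  · exact chunk_apply chkH_E8_0 r (by omega) (by omega)
  by_cases h2 : r < 40
  · exact chunk_apply chkH_E8_20 r (by omega) (by omega)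
  by_cases h3 : r < 60
  · exact chunk_apply chkH_E8_40 r (by omega) (by omega)
  by_cases h4 : r < 80
  · exact chunk_apply chkH_E8_60 r (by omega) (by omega)
  by_cases h5 : r < 100
  · exact chunk_apply chkH_E8_80 r (by omega) (by omega)
  by_cases h6 : r < 120
  · exact chunk_apply chkH_E8_100 r (by omega) (by omega)
  by_cases h7 : r < 140
  · exact chunk_apply chkH_E8_120 r (by omega) (by omega)
  by_cases h8 : r < 160
  · exact chunk_apply chkH_E8_140 r (by omega) (by omega)
  by_cases h9 : r < 180
  · exact chunk_apply chkH_E8_160 r (by omega) (by omega)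
  by_cases h10 : r < 200
  · exact chunk_apply chkH_E8_180 r (by omega) (by omega)
  by_cases h11 : r < 220
  · exact chunk_apply chkH_E8_200 r (by omega) (by omega)
  · exact chunk_apply chkH_E8_220 r (by omega) (by omega)

theorem chkH_all (D : ChevalleyDatum)
    (hD : D ∈ [chevG2, chevB2, chevD4, chevF4, chevE6, chevE7, chevE8]) (r : ℕ) (hr : r < D.nroots) :
    chkH D r = true := by
  simp only [List.mem_cons, List.not_mem_nil, or_false] at hD
  rcases hD with rfl | rfl | rfl | rfl | rfl | rfl | rfl
  · exact (allBelow_iff _ _).mp chkH_G2 r hr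
  · exact (allBelow_iff _ _).mp chkH_B2 r hr
  · exact (allBelow_iff _ _).mp chkH_D4 r hr
  · exact (allBelow_iff _ _).mp chkH_F4 r hr
  · exact (allBelow_iff _ _).mp chkH_E6 r hr
  · exact chkH_E7 r hr
  · exact chkH_E8 r hr

end Cfsg.Agent.Helper18
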