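import Cfsg.Agent.Helper18.FastMain

/-!
# `h_r(t)` is a diagonal matrix (helper18)

`chkH D r` is a Boolean check (to be run by `decide +kernel` for a concrete datum) implying that
`D.hMat F r t` is the diagonal matrix with entries `t ^ hExpF D r (code D b)` for every field `F` and every
unit `t` (`hMat_apply_of_chkH`), hence `h_r(t₁) h_r(t₂) = h_r(t₁ t₂)` (`hMat_mul_of_chkH`).
-/

set_option autoImplicit false

namespace Cfsg.Agent.Helper18

open Cfsg.Lie

/-- per-root check for `h_r(t)`: the generators of the word are good and every column is `t^e * e_k`. -/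
noncomputable def chkH (D : ChevalleyDatum) (r : ℕ) : Bool :=
  Bool.and (goodWord D (hWordF D r))
    (allBelow (D.rank + D.nroots) fun k => isDiag (fapplyW D (hWordF D r) [(k, 1, 0)]) k)

/-- The exponent with which `h_r(t)` acts on the coordinate with code `k`. -/
noncomputable def hExpF (D : ChevalleyDatum) (r k : ℕ) : ℤ :=
  headExp (fapplyW D (hWordF D r) [(k, 1, 0)])

section Eval

variable {F : Type*} [Field F]

theorem evFW_hWordF (D : ChevalleyDatum) (r : ℕ) (t : Fˣ) :
    evFW t (hWordF D r) = D.hWord r (t : F) := by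
  simp [evFW, hWordF, ChevalleyDatum.hWord, ChevalleyDatum.nWord, ChevalleyDatum.neg, inv_neg]

theorem hMat_apply_of_chkH (D : ChevalleyDatum) (r : ℕ) (h : chkH D r = true) (t : Fˣ)
    (a b : D.Idx) :
    D.hMat F r (t : F) a b = if a = b then ((t ^ hExpF D r (code D b) : Fˣ) : F) else 0 := by
  unfold chkH at h
  rw [Bool.and_eq_true] at h
  have h1 := wordMat_apply_fast t D (hWordF D r) h.1 a b
  rw [evFW_hWordF] at h1
  have h2 := (isDiag_iff _ _).mp ((allBelow_iff _ _).mp h.2 (code D b) (code_lt D b))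
  unfold ChevalleyDatum.hMat
  rw [h1, h2, evF_cons, evF_nil, add_zero]
  unfold evE
  by_cases hab : a = b
  · subst hab
    rw [if_pos rfl, if_pos rfl]
    simp [hExpF]
  · rw [if_neg hab, if_neg (fun h' => hab (code_injective D h').symm)]

theorem hMat_eq_diagonal_of_chkH (D : ChevalleyDatum) (r : ℕ) (h : chkH D r = true) (t : Fˣ) :
    D.hMat F r (t : F) = Matrix.diagonal fun b => ((t ^ hExpF D r (code D b) : Fˣ) : F) := by
  ext a b
  rw [hMat_apply_of_chkH D r h, Matrix.diagonal_apply]
  by_cases hab : a = b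
  · subst hab; simp
  · simp [hab]

theorem hMat_mul_of_chkH (D : ChevalleyDatum) (r : ℕ) (h : chkH D r = true) (t₁ t₂ : F)
    (h₁ : t₁ ≠ 0) (h₂ : t₂ ≠ 0) :
    D.hMat F r t₁ * D.hMat F r t₂ = D.hMat F r (t₁ * t₂) := by
  have e1 := hMat_eq_diagonal_of_chkH D r h (Units.mk0 t₁ h₁)
  have e2 := hMat_eq_diagonal_of_chkH D r h (Units.mk0 t₂ h₂)
  have e3 := hMat_eq_diagonal_of_chkH D r h (Units.mk0 t₁ h₁ * Units.mk0 t₂ h₂)
  rw [Units.val_mk0] at e1 e2
  rw [Units.val_mul, Units.val_mk0, Units.val_mk0] at e3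
  rw [e1, e2, e3, Matrix.diagonal_mul_diagonal]
  congr 1
  funext b
  rw [mul_zpow, Units.val_mul]

end Eval

end Cfsg.Agent.Helper18
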