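import Cfsg.Agent.Helper18.HCheck
import Cfsg.Prelude.Def_ChevG2
import Cfsg.Prelude.Def_ChevB2
import Cfsg.Prelude.Def_ChevD4
import Cfsg.Prelude.Def_ChevF4
import Cfsg.Prelude.Def_ChevE6

set_option autoImplicit false
set_option maxRecDepth 1000000

namespace Cfsg.Agent.Helper18

open Cfsg.Lie

theorem chkH_G2 : allBelow chevG2.nroots (chkH chevG2) = true := by decide +kernel
theorem chkH_B2 : allBelow chevB2.nroots (chkH chevB2) = true := by decide +kernel
theorem chkH_D4 : allBelow chevD4.nroots (chkH chevD4) = true := by decide +kernel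
theorem chkH_F4 : allBelow chevF4.nroots (chkH chevF4) = true := by decide +kernel
theorem chkH_E6 : allBelow chevE6.nroots (chkH chevE6) = true := by decide +kernel

end Cfsg.Agent.Helper18
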