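import Cfsg.Agent.Helper18.NGroup

/-!
# `N` consists of block-monomial matrices; `U ∩ N = 1`, `B ∩ N = H` (helper18)

`BM D A`: the matrix `A` does not mix coroot coordinates with root coordinates and every root column has
at most one non-zero entry. All elements of the monomial subgroup `N` have this property
(`monomialSubgroup_le_blockMono`); a unitriangular matrix with this property is the identity.
-/

set_option autoImplicit false

namespace Cfsg.Agent.Helper18

open Cfsg.Lie

section

variable {F : Type*} [Field F] (D : ChevalleyDatum)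

/-- Block-monomial matrices. -/
def BM (A : Matrix D.Idx D.Idx F) : Prop :=
  (∀ (s : Fin D.nroots) (j : Fin D.rank), A (Sum.inr s) (Sum.inl j) = 0) ∧
  (∀ (j : Fin D.rank) (s : Fin D.nroots), A (Sum.inl j) (Sum.inr s) = 0) ∧
  (∀ s : Fin D.nroots, ∃ s' : Fin D.nroots, ∀ u : Fin D.nroots, u ≠ s' → A (Sum.inr u) (Sum.inr s) = 0)

variable {D}

theorem BM.mul {A B : Matrix D.Idx D.Idx F} (hA : BM D A) (hB : BM D B) : BM D (A * B) := by
  refine ⟨?_, ?_, ?_⟩
  · intro s j
    rw [Matrix.mul_apply, Fintype.sum_sum_type]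
    simp [hA.1, hB.1]
  · intro j s
    rw [Matrix.mul_apply, Fintype.sum_sum_type]
    simp [hA.2.1, hB.2.1]
  · intro s
    obtain ⟨s₁, h₁⟩ := hB.2.2 s
    obtain ⟨s₂, h₂⟩ := hA.2.2 s₁
    refine ⟨s₂, fun u hu => ?_⟩
    rw [Matrix.mul_apply, Fintype.sum_sum_type]
    have e1 : ∑ j : Fin D.rank, A (Sum.inr u) (Sum.inl j) * B (Sum.inl j) (Sum.inr s) = 0 :=
      Finset.sum_eq_zero (fun j _ => by rw [hB.2.1, mul_zero])
    have e2 : ∑ u' : Fin D.nroots, A (Sum.inr u) (Sum.inr u') * B (Sum.inr u') (Sum.inr s) = 0 := by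
      apply Finset.sum_eq_zero
      intro u' _
      by_cases hu' : u' = s₁
      · rw [hu', h₂ u hu, zero_mul]
      · rw [h₁ u' hu', mul_zero]
    rw [e1, e2, add_zero]

theorem BM.diagonal (d : D.Idx → F) : BM D (Matrix.diagonal d) := by
  refine ⟨?_, ?_, ?_⟩
  · intro s j
    exact Matrix.diagonal_apply_ne _ (by simp)
  · intro j s
    exact Matrix.diagonal_apply_ne _ (by simp)
  · intro s
    refine ⟨s, fun u hu => ?_⟩
    exact Matrix.diagonal_apply_ne _ (by simpa using hu)

theorem BM.one : BM D (1 : Matrix D.Idx D.Idx F) := by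
  rw [← Matrix.diagonal_one]
  exact BM.diagonal _

theorem bm_monoMat (i : ℕ) (η : ℕ → ℤ) (hw : ∀ s < D.nroots, D.reflectRoot i s < D.nroots) :
    BM D (monoMat F D i η) := by
  refine ⟨?_, ?_, ?_⟩
  · intro s j
    simp only [monoMat, Matrix.of_apply, Sum.elim_inl, Sum.elim_inr]
  · intro j s
    simp only [monoMat, Matrix.of_apply, Sum.elim_inl, Sum.elim_inr]
  · intro s
    refine ⟨⟨D.reflectRoot i s, hw s s.isLt⟩, fun u hu => ?_⟩
    have : ¬ ((u : ℕ) = D.reflectRoot i s) := fun h => hu (Fin.ext h)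
    simp only [monoMat, Matrix.of_apply, Sum.elim_inr, this, if_false]

variable (D)

/-- The group of invertible block-monomial matrices (with block-monomial inverse). -/
def blockMono (F : Type*) [Field F] : Subgroup (GL D.Idx F) where
  carrier := {g | BM D (g : Matrix D.Idx D.Idx F) ∧ BM D ((g⁻¹ : GL D.Idx F) : Matrix D.Idx D.Idx F)}
  one_mem' := ⟨by rw [Units.val_one]; exact BM.one, by rw [inv_one, Units.val_one]; exact BM.one⟩
  mul_mem' := fun ha hb =>
    ⟨by rw [Units.val_mul]; exact ha.1.mul hb.1, by rw [mul_inv_rev, Units.val_mul]; exact hb.2.mul ha.2⟩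
  inv_mem' := fun ha => ⟨ha.2, by rw [inv_inv]; exact ha.1⟩

/-- A unitriangular block-monomial matrix is the identity. -/
theorem eq_one_of_deg_of_BM {g : Matrix D.Idx D.Idx F}
    (hdeg : Cfsg.Agent.Helper17.Deg (Cfsg.Agent.Helper17.triRank D) 1 (g - 1)) (hbm : BM D g) :
    g = 1 := by
  have hdiag : ∀ a, g a a = 1 := by
    intro a
    by_contra h
    have h' : (g - 1) a a ≠ 0 := by
      rw [Matrix.sub_apply, Matrix.one_apply_eq]
      exact sub_ne_zero.mpr h
    have := hdeg a a h'
    omega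
  ext a b
  by_cases hab : a = b
  · subst hab
    rw [hdiag, Matrix.one_apply_eq]
  · rw [Matrix.one_apply_ne hab]
    rcases a with j' | u <;> rcases b with j | s
    · by_contra h
      have h' : (g - 1) (Sum.inl j') (Sum.inl j) ≠ 0 := by
        rw [Matrix.sub_apply, Matrix.one_apply_ne hab, sub_zero]
        exact h
      have := hdeg _ _ h'
      simp only [Cfsg.Agent.Helper17.triRank] at this
      omega
    · exact hbm.2.1 j' s
    · exact hbm.1 u j
    · obtain ⟨s', hs'⟩ := hbm.2.2 s
      by_cases hu : u = s'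
      · have hs : s ≠ s' := by
          intro h
          apply hab
          rw [hu, h]
        have := hs' s hs
        rw [hdiag] at this
        exact absurd this one_ne_zero
      · exact hs' u hu

theorem nU_mem_of_simple (hD : D ∈ [chevG2, chevB2, chevD4, chevF4, chevE6, chevE7, chevE8])
    (K : Subgroup (GL D.Idx F))
    (hK : ∀ i (hi : i < D.rank), nU D hD (D.simple i) (simple_lt D hD i hi) ∈ K) (r : ℕ)
    (hr : r < D.nroots) : nU D hD r hr ∈ K := by
  have key : ∀ r < D.nroots, ∀ hr : r < D.nroots, nU D hD r hr ∈ K := by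
    apply reach_all D hD (fun r => ∀ hr : r < D.nroots, nU D hD r hr ∈ K)
    · intro i hi _
      exact hK i hi
    · intro i hi s hs ih hw
      have hN := hK i hi
      have hS := ih hs
      have hmul := Units.mul_inv (nU (F := F) D hD (D.simple i) (simple_lt D hD i hi))
      rw [nU_val] at hmul
      have e := nMat_mul_nMat (F := F) D hD hi hs (t := 1) one_ne_zero
      rw [mul_one] at e
      have hc : nU D hD (D.simple i) (simple_lt D hD i hi) * nU D hD s hs *
          (nU D hD (D.simple i) (simple_lt D hD i hi))⁻¹ ∈ K :=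
        mul_mem (mul_mem hN hS) (inv_mem hN)
      rcases etaN_eq D i s with h3 | h3
      · rw [h3, Int.cast_one] at e
        have : nU (F := F) D hD (D.reflectRoot i s) hw = nU D hD (D.simple i) (simple_lt D hD i hi) *
            nU D hD s hs * (nU D hD (D.simple i) (simple_lt D hD i hi))⁻¹ := by
          apply Units.ext
          rw [Units.val_mul, Units.val_mul, nU_val, nU_val, nU_val, e, mul_assoc, hmul, mul_one]
        rw [this]; exact hc
      · rw [h3, Int.cast_neg, Int.cast_one] at e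
        have : (nU (F := F) D hD (D.reflectRoot i s) hw)⁻¹ =
            nU D hD (D.simple i) (simple_lt D hD i hi) *
            nU D hD s hs * (nU D hD (D.simple i) (simple_lt D hD i hi))⁻¹ := by
          apply Units.ext
          rw [Units.val_mul, Units.val_mul, nU_inv_val, nU_val, nU_val, e, mul_assoc, hmul, mul_one]
        have h4 := inv_mem hc
        rw [← this, inv_inv] at h4
        exact h4
  exact key r hr hr

theorem hMat_BM (hD : D ∈ [chevG2, chevB2, chevD4, chevF4, chevE6, chevE7, chevE8]) {r : ℕ}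
    (hr : r < D.nroots) {t : F} (ht : t ≠ 0) : BM D (D.hMat F r t) := by
  rw [Cfsg.Agent.Helper17.hDiag_of_mem hD r hr t ht]
  exact BM.diagonal _

theorem nU_simple_mem_blockMono (hD : D ∈ [chevG2, chevB2, chevD4, chevF4, chevE6, chevE7, chevE8])
    (i : ℕ) (hi : i < D.rank) : nU D hD (D.simple i) (simple_lt D hD i hi) ∈ blockMono D F := by
  have h1 : BM D (D.nMat F (D.simple i) 1) := by
    rw [nMat_simple_eq D hD i hi]
    exact bm_monoMat i _ (fun s hs => (reflectRoot_spec D hD i hi s hs).1)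
  have hp := simple_lt D hD i hi
  have h2 : D.nMat F (D.simple i) (-1) = D.nMat F (D.simple i) 1 * D.hMat F (D.simple i) (-1) := by
    rw [hMat_eq_nMat, ← mul_assoc, nMat_one_mul_neg_one D hD hp, one_mul]
  refine ⟨h1, ?_⟩
  rw [nU_inv_val, h2]
  exact h1.mul (hMat_BM D hD hp (neg_ne_zero.mpr one_ne_zero))

theorem diagonalSubgroup_le_blockMono
    (hD : D ∈ [chevG2, chevB2, chevD4, chevF4, chevE6, chevE7, chevE8]) :
    D.diagonalSubgroup F ≤ blockMono D F := by
  unfold ChevalleyDatum.diagonalSubgroup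
  rw [Subgroup.closure_le]
  rintro g ⟨r, t, hr, ht, hg⟩
  refine ⟨by rw [hg]; exact hMat_BM D hD hr ht, ?_⟩
  have e : ((g⁻¹ : GL D.Idx F) : Matrix D.Idx D.Idx F) = D.hMat F r t⁻¹ := by
    have h1 : (g : Matrix D.Idx D.Idx F) * D.hMat F r t⁻¹ = 1 := by
      rw [hg, hMat_mul D hD hr ht (inv_ne_zero ht), mul_inv_cancel₀ ht, hMat_one D hD hr]
    calc ((g⁻¹ : GL D.Idx F) : Matrix D.Idx D.Idx F)
        = ((g⁻¹ : GL D.Idx F) : Matrix D.Idx D.Idx F) * ((g : Matrix D.Idx D.Idx F) * D.hMat F r t⁻¹) := by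
          rw [h1, mul_one]
      _ = D.hMat F r t⁻¹ := by rw [← mul_assoc, Units.inv_mul, one_mul]
  rw [e]
  exact hMat_BM D hD hr (inv_ne_zero ht)

/-- Every element of `N` is block-monomial. -/
theorem monomialSubgroup_le_blockMono
    (hD : D ∈ [chevG2, chevB2, chevD4, chevF4, chevE6, chevE7, chevE8]) :
    D.monomialSubgroup F ≤ blockMono D F := by
  refine sup_le (diagonalSubgroup_le_blockMono D hD) ?_
  rw [Subgroup.closure_le]
  rintro g ⟨r, hr, hg⟩
  rw [eq_nU D hD hr hg]
  exact nU_mem_of_simple D hD _ (nU_simple_mem_blockMono D hD) r hr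

/-- `U ∩ N = 1`. -/
theorem posUnipotent_inf_monomial (hD : D ∈ [chevG2, chevB2, chevD4, chevF4, chevE6, chevE7, chevE8]) :
    D.posUnipotent F ⊓ D.monomialSubgroup F = ⊥ := by
  rw [eq_bot_iff]
  rintro g ⟨hU, hN⟩
  rw [Subgroup.mem_bot]
  apply Units.ext
  rw [Units.val_one]
  exact eq_one_of_deg_of_BM D
    (Cfsg.Agent.Helper17.posUnipotent_deg D (Cfsg.Agent.Helper17.triOK_of_mem hD).1 hU)
    (monomialSubgroup_le_blockMono D hD hN).1

/-- `B ∩ N = H`. -/
theorem borel_inf_monomial (hD : D ∈ [chevG2, chevB2, chevD4, chevF4, chevE6, chevE7, chevE8]) :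
    D.borelSubgroup F ⊓ D.monomialSubgroup F = D.diagonalSubgroup F := by
  apply le_antisymm
  · rintro g ⟨hgB, hgN⟩
    have hnorm := Cfsg.Agent.Helper17.diagonalSubgroup_le_normalizer_posUnipotent (F := F)
      (Cfsg.Agent.Helper17.torusFacts_of_mem hD) (Cfsg.Agent.Helper17.hDiag_of_mem hD)
    have hg : g ∈ ((D.posUnipotent F ⊔ D.diagonalSubgroup F : Subgroup (GL D.Idx F)) :
        Set (GL D.Idx F)) := hgB
    rw [Subgroup.coe_mul_of_right_le_normalizer_left _ _ hnorm] at hg
    obtain ⟨u, hu, k, hk, huk⟩ := hg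
    have huk' : u * k = g := huk
    subst huk'
    have hkN : k ∈ D.monomialSubgroup F := (le_sup_left : D.diagonalSubgroup F ≤ _) hk
    have huN : u ∈ D.monomialSubgroup F := by
      have e : u = (u * k) * k⁻¹ := by group
      rw [e]; exact mul_mem hgN (inv_mem hkN)
    have hu1 : u = 1 := by
      have hmem : u ∈ D.posUnipotent F ⊓ D.monomialSubgroup F := ⟨hu, huN⟩
      rw [posUnipotent_inf_monomial D hD] at hmem
      exact Subgroup.mem_bot.mp hmem
    rw [hu1, one_mul]; exact hk
  · refine le_inf ?_ le_sup_left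
    unfold ChevalleyDatum.borelSubgroup
    exact le_sup_right

end

end Cfsg.Agent.Helper18
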