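import Cfsg.Agent.Helper18.NReach
import Cfsg.Prelude.Def_ChevG2
import Cfsg.Prelude.Def_ChevB2
import Cfsg.Prelude.Def_ChevD4
import Cfsg.Prelude.Def_ChevF4
import Cfsg.Prelude.Def_ChevE6
import Cfsg.Prelude.Def_ChevE7
import Cfsg.Prelude.Def_ChevE8

/-!
# Reachability certificates for the seven data (helper18)
-/

set_option autoImplicit false
set_option maxRecDepth 1000000

namespace Cfsg.Agent.Helper18

open Cfsg.Lie


theorem reachMask_append (D : ChevalleyDatum) (l1 l2 : List (ℕ × ℕ)) (m : ℕ) :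
    reachMask D (l1 ++ l2) m = reachMask D l2 (reachMask D l1 m) := by
  induction l1 generalizing m with
  | nil => rfl
  | cons st l1 ih => exact ih _

/-- reachability certificate for type G2 -/
def reachG2 : List (ℕ × ℕ) := [(0, 6), (1, 6), (0, 7), (1, 7), (1, 10), (0, 5), (1, 4), (0, 8), (1, 1), (0, 3)]

/-- reachability certificate for type B2 -/
def reachB2 : List (ℕ × ℕ) := [(0, 4), (1, 4), (0, 5), (1, 5), (0, 3), (1, 2)]

/-- reachability certificate for type D4 -/
def reachD4 : List (ℕ × ℕ) := [(0, 18), (1, 18), (1, 12), (3, 12), (1, 13), (2, 13), (1, 14), (1, 5), (2, 19), (3, 19), (2, 15), (1, 11), (1, 10), (2, 4), (3, 4), (3, 21), (2, 8), (3, 2), (1, 22), (1, 1)]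

/-- reachability certificate for type F4 -/
def reachF4 : List (ℕ × ℕ) := [(2, 24), (3, 24), (0, 33), (1, 33), (1, 27), (2, 27), (1, 25), (2, 25), (1, 26), (2, 23), (1, 14), (2, 34), (2, 20), (3, 28), (0, 30), (1, 22), (0, 31), (2, 31), (1, 21), (2, 13), (1, 35), (3, 35), (3, 19), (0, 17), (2, 42), (0, 16), (2, 16), (1, 12), (3, 12), (3, 37), (1, 43), (2, 5), (3, 10), (2, 38), (2, 45), (1, 4), (2, 9), (1, 39), (3, 46), (2, 2), (1, 8), (0, 40), (3, 1), (0, 7)]

/-- reachability certificate for type E6 -/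
def reachE6 : List (ℕ × ℕ) := [(4, 36), (5, 36), (3, 37), (4, 37), (1, 39), (2, 39), (3, 39), (0, 42), (2, 42), (1, 46), (0, 56), (3, 38), (4, 35), (1, 40), (2, 40), (3, 34), (2, 47), (0, 43), (1, 32), (2, 32), (0, 29), (1, 41), (2, 41), (3, 33), (2, 48), (0, 44), (1, 31), (2, 31), (0, 50), (2, 24), (0, 28), (2, 49), (0, 45), (1, 30), (2, 30), (0, 51), (3, 51), (2, 23), (0, 27), (0, 21), (0, 52), (3, 52), (2, 22), (0, 26), (3, 62), (0, 20), (3, 20), (3, 63), (4, 54), (0, 19), (3, 19), (2, 64), (3, 9), (2, 65), (4, 65), (3, 8), (4, 17), (2, 7), (4, 68), (2, 6), (4, 6), (3, 69), (4, 3), (1, 70), (3, 2), (1, 1)]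

/-- reachability certificate for type E7 -/
def reachE7 : List (ℕ × ℕ) := [(4, 64), (5, 64), (6, 64), (3, 66), (4, 66), (1, 69), (2, 69), (3, 69), (0, 73), (2, 73), (1, 78), (0, 93), (6, 63), (3, 67), (6, 67), (4, 61), (6, 61), (1, 70), (2, 70), (3, 59), (2, 79), (0, 74), (1, 56), (2, 56), (0, 52), (1, 71), (2, 71), (6, 71), (3, 58), (6, 58), (2, 80), (0, 75), (1, 55), (2, 55), (0, 83), (2, 46), (0, 51), (2, 81), (6, 81), (0, 76), (6, 76), (1, 54), (2, 54), (6, 54), (0, 84), (3, 84), (2, 45), (0, 50), (0, 42), (0, 85), (3, 85), (6, 85), (6, 97), (2, 44), (6, 44), (0, 49), (6, 49), (3, 100), (0, 41), (3, 41), (3, 101), (6, 101), (4, 88), (6, 88), (0, 40), (3, 40), (6, 40), (6, 28), (2, 103), (3, 25), (2, 104), (4, 104), (6, 104), (6, 90), (3, 24), (6, 24), (4, 37), (6, 37), (2, 22), (4, 110), (6, 110), (6, 106), (5, 91), (2, 21), (4, 21), (6, 21), (6, 35), (3, 112), (6, 112), (5, 107), (4, 15), (6, 15), (6, 19), (5, 34), (1, 115), (6, 115), (5, 113), (3, 13), (6, 13), (5, 18),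 (6, 119), (5, 116), (1, 10), (6, 10), (5, 12), (5, 120), (4, 117), (6, 6), (5, 9), (4, 121), (5, 5), (4, 8), (3, 122), (4, 4), (2, 123), (3, 3), (0, 124), (2, 2), (0, 1)]

/-- reachability certificate for type E8, first half -/
def reachE8a : List (ℕ × ℕ) := [(0, 162), (2, 162), (1, 130), (2, 130), (3, 130), (4, 130), (2, 135), (1, 141), (6, 120), (7, 120), (5, 121), (6, 121), (4, 123), (5, 123), (4, 126), (2, 77), (3, 163), (2, 142), (4, 142), (4, 136), (1, 109), (2, 109), (4, 109), (5, 131), (5, 122), (6, 119), (4, 124), (5, 118), (4, 116), (3, 76), (1, 164), (4, 164), (4, 147), (5, 143), (5, 137), (2, 97), (4, 97), (4, 103), (5, 108), (6, 132), (4, 125), (5, 117), (4, 115), (1, 75), (4, 75), (4, 169), (5, 165), (3, 148), (5, 148), (6, 144), (6, 138), (4, 92), (5, 96), (5, 102), (6, 107), (7, 133), (4, 114), (4, 70), (5, 74), (3, 170), (5, 170), (6, 166), (5, 152), (6, 149), (7, 145), (7, 139), (3, 91), (5, 91), (6, 95), (6, 101), (7, 106), (3, 69), (5, 69), (6, 73), (2, 174),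 (5, 174), (6, 171), (7, 167), (4, 153), (6, 153), (7, 150), (5, 87), (6, 90), (7, 94), (7, 100), (2, 65), (5, 65), (6, 68), (7, 72), (5, 184), (4, 175), (6, 175), (7, 172), (6, 156), (7, 154), (4, 86), (6, 86), (7, 89), (5, 55), (4, 64), (6, 64), (7, 67), (4, 185), (6, 185), (6, 178), (7, 176), (5, 157), (7, 157), (6, 83), (7, 85), (4, 54), (6, 54), (6, 61), (7, 63), (3, 188), (6, 188)]

/-- reachability certificate for type E8, second half -/
def reachE8b : List (ℕ × ℕ) := [(7, 186), (5, 179), (7, 179), (7, 159), (5, 82), (7, 82), (3, 51), (6, 51), (7, 53), (5, 60), (7, 60), (1, 194), (6, 194), (5, 189), (7, 189), (7, 181), (6, 160), (7, 80), (1, 45), (6, 45), (5, 50), (7, 50), (7, 58), (6, 204), (5, 195), (7, 195), (7, 191), (6, 182), (6, 79), (6, 35), (5, 44), (7, 44), (7, 48), (6, 57), (5, 205), (7, 205), (4, 197), (7, 197), (6, 192), (5, 34), (7, 34), (4, 42), (7, 42), (6, 47), (4, 207), (7, 207), (7, 200), (6, 198), (4, 32), (7, 32), (7, 39), (6, 41), (3, 210), (7, 210),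 (6, 208), (6, 201), (3, 29), (7, 29), (6, 31), (6, 38), (2, 214), (7, 214), (6, 211), (5, 202), (2, 25), (7, 25), (6, 28), (5, 37), (0, 219), (7, 219), (6, 215), (5, 212), (0, 20), (7, 20), (6, 24), (5, 27), (7, 226), (6, 220), (5, 216), (7, 13), (6, 19), (5, 23), (6, 227), (5, 221), (4, 217), (6, 12), (5, 18), (4, 22), (5, 228), (4, 222), (5, 11), (4, 17), (4, 229), (3, 223), (4, 10), (3, 16), (3, 230), (1, 224), (3, 9), (1, 15), (1, 231), (2, 231), (1, 8), (2, 8), (2, 233), (2, 6), (3, 234), (3, 5), (4, 235), (4, 4), (5, 236), (5, 3), (6, 237), (6, 2), (7, 238), (7, 1)]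

/-- reachability certificate for type E8 -/
def reachE8 : List (ℕ × ℕ) := reachE8a ++ reachE8b

theorem chkReach_G2 : chkReach chevG2 reachG2 = true := by decide +kernel
theorem chkReach_B2 : chkReach chevB2 reachB2 = true := by decide +kernel
theorem chkReach_D4 : chkReach chevD4 reachD4 = true := by decide +kernel
theorem chkReach_F4 : chkReach chevF4 reachF4 = true := by decide +kernel
theorem chkReach_E6 : chkReach chevE6 reachE6 = true := by decide +kernel
theorem chkReach_E7 : chkReach chevE7 reachE7 = true := by decide +kernel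
theorem chkReach_E8_a : Nat.beq (reachMask chevE8 reachE8a (simpleMask chevE8 chevE8.rank)) 26458535508665066227564152669139029023555770711362678816768 = true := by decide +kernel
theorem chkReach_E8_b : allBelow chevE8.nroots (maskBit (reachMask chevE8 reachE8b 26458535508665066227564152669139029023555770711362678816768)) = true := by decide +kernel
theorem chkReach_E8 : chkReach chevE8 reachE8 = true := by
  unfold chkReach reachE8
  rw [reachMask_append, Nat.eq_of_beq_eq_true chkReach_E8_a]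
  exact chkReach_E8_b

/-- Induction over the roots of one of the seven data. -/
theorem reach_all (D : ChevalleyDatum)
    (hD : D ∈ [chevG2, chevB2, chevD4, chevF4, chevE6, chevE7, chevE8]) (P : ℕ → Prop)
    (h0 : ∀ i < D.rank, P (D.simple i))
    (h1 : ∀ i < D.rank, ∀ s < D.nroots, P s → P (D.reflectRoot i s)) : ∀ r < D.nroots, P r := by
  simp only [List.mem_cons, List.not_mem_nil, or_false] at hD
  rcases hD with rfl | rfl | rfl | rfl | rfl | rfl | rfl
  · exact reach_induction _ _ chkReach_G2 P h0 h1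
  · exact reach_induction _ _ chkReach_B2 P h0 h1
  · exact reach_induction _ _ chkReach_D4 P h0 h1
  · exact reach_induction _ _ chkReach_F4 P h0 h1
  · exact reach_induction _ _ chkReach_E6 P h0 h1
  · exact reach_induction _ _ chkReach_E7 P h0 h1
  · exact reach_induction _ _ chkReach_E8 P h0 h1

end Cfsg.Agent.Helper18
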