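/-
helper18: two lemmas on the subgroups generated by root subgroups of positive roots.
* `lower_simple`: a nontrivial element of the subgroup of a closed set `A` of positive roots (the positive
  roots of a Levi subsystem) is conjugate, under a product of the `n_i`, to an element with a nonzero
  coordinate at a fundamental root.
* `invol_cocycle`: in characteristic two, an involution `x_p(a) u` is conjugate, inside the subgroup, to
  `x_p(a) u'` with `u'` in the subgroup of the roots fixed by `x_p`.
-/
import Cfsg.Agent.Helper18.RSubDefs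

set_option autoImplicit false

namespace Cfsg.Agent.Helper18.RSub

open Cfsg Cfsg.Lie Cfsg.Agent.Helper17 Cfsg.Agent.Helper36 Cfsg.Agent.Helper18

variable {D : ChevalleyDatum} {F : Type*} [Field F] {η : ℕ → ℕ → ℤ} {f : ℕ → ℤ}

theorem xGL_mem (hX : XAdd D F) {A : List ℕ} {r : ℕ} (hr : r ∈ A) (t : F) :
    xGL hX r t ∈ rootsSubgroup D F A :=
  Subgroup.subset_closure ⟨r, hr, t, rfl⟩

theorem wordGL_mem_of (hX : XAdd D F) (A : List ℕ) (w : List (ℕ × F))
    (h : ∀ q ∈ w, q.1 ∈ A ∨ q.2 = 0) : wordGL hX w ∈ rootsSubgroup D F A := by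
  apply wordGL_mem
  intro q hq
  rcases h q hq with h1 | h1
  · exact xGL_mem hX h1 _
  · rw [h1, xGL_zero]; exact one_mem _

/-- The terms of the commutator formula of `(q, s)` lie in `A`, or have a coefficient that vanishes in `F`. -/
def TermsIn (D : ChevalleyDatum) (F : Type*) [Field F] (q s : ℕ) (A : List ℕ) : Prop :=
  ∀ c ∈ D.commTerms q s, c.1 ∈ A ∨ ((c.2.1 : ℤ) : F) = 0

theorem commWord_mem (hX : XAdd D F) {q s : ℕ} {A : List ℕ} (h : TermsIn D F q s A) (t u : F) :
    wordGL hX (D.commWord F q s t u) ∈ rootsSubgroup D F A := by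
  apply wordGL_mem_of
  intro x hx
  unfold ChevalleyDatum.commWord at hx
  rw [List.mem_map] at hx
  obtain ⟨c, hc, rfl⟩ := hx
  rcases h c hc with h1 | h1
  · exact Or.inl h1
  · right
    show ((c.2.1 : ℤ) : F) * (-t) ^ c.2.2.1 * u ^ c.2.2.2 = 0
    rw [h1, zero_mul, zero_mul]

/-- `x_q(u)` conjugates `x_s(t)`, `s ∈ A`, into the subgroup of `A`, when the terms of the commutator formula
of `(q, s)` or of `(s, q)` lie in `A`. -/
theorem conj_gen_mem (R : BRel D F η) {q s : ℕ} {A : List ℕ} (hq : q < D.nroots) (hs : s < D.nroots)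
    (hsq : s ≠ q) (hsn : s ≠ D.neg q) (hsA : s ∈ A)
    (h : TermsIn D F q s A ∨ TermsIn D F s q A) (u t : F) :
    xGL R.xadd q u * xGL R.xadd s t * (xGL R.xadd q u)⁻¹ ∈ rootsSubgroup D F A := by
  rcases h with h | h
  · rw [xGL_conj R.xadd (R.cf q hq s hs hsq hsn)]
    exact mul_mem (xGL_mem _ hsA _) (commWord_mem _ h _ _)
  · have hqn : q ≠ D.neg s := by
      intro e
      apply hsn
      rw [e, R.wf.neg_neg s hs]
    have h1 := xGL_conj R.xadd (R.cf s hs q hq (Ne.symm hsq) hqn) t (-u)
    rw [← xGL_inv] at h1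
    have h2 : wordGL R.xadd (D.commWord F s q (-t) (-u)) =
        xGL R.xadd q u * (xGL R.xadd s t * (xGL R.xadd q u)⁻¹ * (xGL R.xadd s t)⁻¹) := by
      rw [h1]; group
    have h3 : xGL R.xadd q u * xGL R.xadd s t * (xGL R.xadd q u)⁻¹ =
        wordGL R.xadd (D.commWord F s q (-t) (-u)) * xGL R.xadd s t := by
      rw [h2]; group
    rw [h3]
    exact mul_mem (commWord_mem _ h _ _) (xGL_mem _ hsA _)

theorem pos_ne_neg (hW : WtFacts D f) {q s : ℕ} (hq : D.IsPosRoot q) (hs : D.IsPosRoot s) :
    s ≠ D.neg q := by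
  intro e
  have h1 := (hW.pos q hq.1).mp hq
  have h2 := (hW.pos s hs.1).mp hs
  rw [e, hW.neg q hq.1] at h2
  omega

/-- `x_q(u)` normalises the subgroup of `A`. -/
theorem conj_mem (R : BRel D F η) (hW : WtFacts D f) {q : ℕ} {A : List ℕ} (hq : D.IsPosRoot q)
    (hA : ∀ s ∈ A, D.IsPosRoot s ∧ s ≠ q ∧ (TermsIn D F q s A ∨ TermsIn D F s q A)) (u : F) :
    ∀ n ∈ rootsSubgroup D F A, xGL R.xadd q u * n * (xGL R.xadd q u)⁻¹ ∈ rootsSubgroup D F A := by
  unfold rootsSubgroup
  apply conj_mem_closure
  rintro g ⟨s, hs, t, hg⟩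
  rw [eq_xGL R.xadd hg]
  obtain ⟨h1, h2, h3⟩ := hA s hs
  exact conj_gen_mem R hq.1 h1.1 h2 (pos_ne_neg hW hq h1) hs h3 u t

theorem conj_mem' (R : BRel D F η) (hW : WtFacts D f) {q : ℕ} {A : List ℕ} (hq : D.IsPosRoot q)
    (hA : ∀ s ∈ A, D.IsPosRoot s ∧ s ≠ q ∧ (TermsIn D F q s A ∨ TermsIn D F s q A)) (u : F) :
    ∀ n ∈ rootsSubgroup D F A, (xGL R.xadd q u)⁻¹ * n * xGL R.xadd q u ∈ rootsSubgroup D F A := by
  intro n hn
  have := conj_mem R hW hq hA (-u) n hn
  rwa [← xGL_inv, inv_inv] at this

/-- Every element of the subgroup of `q :: B` is `x_q(t) n` with `n` in the subgroup of `B`, when `x_q`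
normalises the subgroup of `B`. -/
theorem decomp_cons (hX : XAdd D F) {q : ℕ} {B : List ℕ}
    (hn : ∀ u : F, ∀ n ∈ rootsSubgroup D F B,
      xGL hX q u * n * (xGL hX q u)⁻¹ ∈ rootsSubgroup D F B) :
    ∀ g ∈ rootsSubgroup D F (q :: B), ∃ (t : F) (n : GL D.Idx F),
      n ∈ rootsSubgroup D F B ∧ g = xGL hX q t * n := by
  intro g hg
  unfold rootsSubgroup at hg
  induction hg using Subgroup.closure_induction with
  | mem x hx =>
    obtain ⟨r, hr, t, hxm⟩ := hx
    rcases List.mem_cons.mp hr with rfl | hr'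
    · exact ⟨t, 1, one_mem _, by rw [mul_one]; exact eq_xGL hX hxm⟩
    · exact ⟨0, x, Subgroup.subset_closure ⟨r, hr', t, hxm⟩, by rw [xGL_zero, one_mul]⟩
  | one => exact ⟨0, 1, one_mem _, by rw [xGL_zero, one_mul]⟩
  | mul a b _ _ iha ihb =>
    obtain ⟨t, n, hn1, rfl⟩ := iha
    obtain ⟨t', n', hn', rfl⟩ := ihb
    refine ⟨t + t', xGL hX q (-t') * n * (xGL hX q (-t'))⁻¹ * n', mul_mem (hn _ n hn1) hn', ?_⟩
    rw [← xGL_mul, ← xGL_inv]
    group
  | inv a _ iha =>
    obtain ⟨t, n, hn1, rfl⟩ := iha
    refine ⟨-t, xGL hX q t * n⁻¹ * (xGL hX q t)⁻¹, hn _ _ (inv_mem hn1), ?_⟩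
    rw [← xGL_inv]
    group

theorem idx_lt_of_wt_lt (hW : WtFacts D f) {a b : ℕ} (ha : a < D.nroots) (h : f a < f b) : a < b := by
  by_contra hle
  rcases Nat.eq_or_lt_of_le (Nat.le_of_not_lt hle) with e | e
  · rw [e] at h; omega
  · have := hW.mono b a e ha
    omega

/-- The roots of the commutator formula of two positive roots have a larger index than both. -/
theorem lt_of_commTerms (hW : WtFacts D f) {r s : ℕ} (hr : D.IsPosRoot r) (hs : D.IsPosRoot s)
    {c : ℕ × ℤ × ℕ × ℕ} (hc : c ∈ D.commTerms r s) : r < c.1 ∧ s < c.1 := by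
  obtain ⟨h1, h2, h3⟩ := commTerms_wt_gt hW hr.1 hs.1 ((hW.pos r hr.1).mp hr)
    ((hW.pos s hs.1).mp hs) c hc
  exact ⟨idx_lt_of_wt_lt hW hr.1 h2, idx_lt_of_wt_lt hW hs.1 h3⟩

/-- `x_m` normalises the subgroup of the roots of `A` after `m`. -/
theorem conj_tail (R : BRel D F η) (hW : WtFacts D f) {A : List ℕ} (hA : PosClosed D A) {m : ℕ}
    (hm : m ∈ A) (u : F) :
    ∀ n ∈ rootsSubgroup D F (A.filter fun r => decide (m < r)),
      xGL R.xadd m u * n * (xGL R.xadd m u)⁻¹ ∈ rootsSubgroup D F (A.filter fun r => decide (m < r)) := by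
  apply conj_mem R hW (hA.1 m hm)
  intro s hs
  rw [List.mem_filter, decide_eq_true_eq] at hs
  refine ⟨hA.1 s hs.1, Nat.ne_of_gt hs.2, Or.inl ?_⟩
  intro c hc
  left
  rw [List.mem_filter, decide_eq_true_eq]
  exact ⟨hA.2 m hm s hs.1 hs.2 c hc, (lt_of_commTerms hW (hA.1 m hm) (hA.1 s hs.1) hc).1⟩

/-- An element of the subgroup of a closed set is an ordered word. -/
theorem exists_word (R : BRel D F η) (hW : WtFacts D f) (hE : RootElts D F) {B : List ℕ}
    (hB : PosClosed D B) {g : GL D.Idx F} (hg : g ∈ rootsSubgroup D F B) :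
    ∃ (L : List ℕ) (τ : ℕ → F), L.Pairwise (· < ·) ∧ (∀ r, r ∈ L ↔ r ∈ B) ∧
      g = wordGL R.xadd (L.map fun r => (r, τ r)) := by
  classical
  have CFp : CommFormulaPos D F :=
    commFormulaPos_of_full hW (fun r s hr hs h1 h2 => R.cf r hr s hs h1 h2)
  have hmem : ∀ r, r ∈ D.posRoots.filter (fun r => decide (r ∈ B)) ↔ r ∈ B := by
    intro r
    rw [List.mem_filter, decide_eq_true_eq, mem_posRoots]
    exact ⟨fun h => h.2, fun h => ⟨hB.1 r h, h⟩⟩
  have hs : (D.posRoots.filter (fun r => decide (r ∈ B))).Pairwise (· < ·) :=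
    List.Pairwise.filter _ posRoots_sorted
  rw [← rootsSubgroup_congr hmem] at hg
  obtain ⟨τ, hτ⟩ := exists_coeff hW hE CFp _ hs (fun r hr => hB.1 r ((hmem r).mp hr))
    (fun r hr s hs' hrs c hc => (hmem _).mpr (hB.2 r ((hmem r).mp hr) s ((hmem s).mp hs') hrs c hc))
    g hg
  exact ⟨_, τ, hs, hmem, Units.ext (by rw [hτ, wordGL_val])⟩

/-- A word in root elements of distinct roots of `A`, with a nonzero coefficient: it is `x_m(c) n` with
`c ≠ 0` and `n` in the subgroup of the roots after `m`. -/
theorem scrambled (R : BRel D F η) (hW : WtFacts D f) {A : List ℕ} (hA : PosClosed D A)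
    (w : List (ℕ × F)) (hw : ∀ q ∈ w, q.1 ∈ A) (hnd : (w.map Prod.fst).Nodup)
    {q1 : ℕ × F} (hq1 : q1 ∈ w) (hq1' : q1.2 ≠ 0) :
    ∃ (m : ℕ) (c : F) (n : GL D.Idx F), m ∈ A ∧ m ≤ q1.1 ∧ c ≠ 0 ∧
      n ∈ rootsSubgroup D F (A.filter fun r => decide (m < r)) ∧
      wordGL R.xadd w = xGL R.xadd m c * n := by
  classical
  have hex : ∃ m, ∃ q ∈ w, q.1 = m ∧ q.2 ≠ 0 := ⟨q1.1, q1, hq1, rfl, hq1'⟩
  obtain ⟨q0, hq0, hq0m, hq0c⟩ := Nat.find_spec hex
  have hmin : ∀ q ∈ w, q.2 ≠ 0 → Nat.find hex ≤ q.1 :=
    fun q hq hc => Nat.find_min' hex ⟨q, hq, rfl, hc⟩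
  obtain ⟨wa, wb, rfl⟩ := List.append_of_mem hq0
  rw [List.map_append, List.map_cons, List.nodup_middle, List.nodup_cons, List.mem_append] at hnd
  have hside : ∀ w' : List (ℕ × F), (∀ q ∈ w', q ∈ wa ++ q0 :: wb) →
      (∀ q ∈ w', q.1 ≠ q0.1) →
      wordGL R.xadd w' ∈ rootsSubgroup D F (A.filter fun r => decide (q0.1 < r)) := by
    intro w' h1 h2
    apply wordGL_mem_of
    intro q hq
    by_cases hq2 : q.2 = 0
    · exact Or.inr hq2
    · left
      rw [List.mem_filter, decide_eq_true_eq]
      have h3 := hmin q (h1 q hq) hq2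
      rw [← hq0m] at h3
      exact ⟨hw q (h1 q hq), lt_of_le_of_ne h3 (Ne.symm (h2 q hq))⟩
  have hWa := hside wa (fun q hq => List.mem_append_left _ hq)
    (fun q hq e => hnd.1 (Or.inl (List.mem_map.mpr ⟨q, hq, e⟩)))
  have hWb := hside wb (fun q hq => List.mem_append_right _ (List.mem_cons_of_mem _ hq))
    (fun q hq e => hnd.1 (Or.inr (List.mem_map.mpr ⟨q, hq, e⟩)))
  have hq0A : q0.1 ∈ A := hw q0 hq0
  refine ⟨q0.1, q0.2, (xGL R.xadd q0.1 q0.2)⁻¹ * wordGL R.xadd wa * xGL R.xadd q0.1 q0.2 *
    wordGL R.xadd wb, hq0A, ?_, hq0c, ?_, ?_⟩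
  · rw [hq0m]; exact Nat.find_min' hex ⟨q1, hq1, rfl, hq1'⟩
  · refine mul_mem ?_ hWb
    have := conj_tail R hW hA hq0A (-q0.2) _ hWa
    rwa [← xGL_inv, inv_inv] at this
  · rw [wordGL_append, wordGL_cons]; group

/-- Conjugating a word by `n_i`. -/
theorem n_conj_wordGL (R : BRel D F η) {i : ℕ} (hi : i < D.rank) (w : List (ℕ × F))
    (hw : ∀ q ∈ w, q.1 < D.nroots) :
    R.n i * wordGL R.xadd w * (R.n i)⁻¹ =
      wordGL R.xadd (w.map fun q => (D.reflectRoot i q.1, ((η i q.1 : ℤ) : F) * q.2)) := by
  induction w with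
  | nil => simp [wordGL_nil]
  | cons q w ih =>
    rw [wordGL_cons, List.map_cons, wordGL_cons,
      ← ih (fun q' hq' => hw q' (List.mem_cons_of_mem _ hq')),
      ← R.conj_x hi (hw q List.mem_cons_self)]
    group

/-- T1 (lowering): a nontrivial element of the subgroup of `A` is conjugate, under a product of the `n_i`,
`i ∈ J`, to `x_{p_j}(a) u₁` with `j ∈ J`, `a ≠ 0` and `u₁` in the subgroup of `A` without `p_j`. -/
theorem lower_simple (R : BRel D F η) (hW : WtFacts D f) (hE : RootElts D F) (A J : List ℕ)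
    (hA : LowOK D A J) {u : GL D.Idx F} (hu : u ∈ rootsSubgroup D F A) (hu1 : u ≠ 1) :
    ∃ (w : List ℕ) (j : ℕ) (a : F) (u1 : GL D.Idx F), (∀ i ∈ w, i ∈ J) ∧ j ∈ J ∧ a ≠ 0 ∧
      u1 ∈ rootsSubgroup D F (A.filter fun r => decide (r ≠ D.simple j)) ∧
      R.nW w * u * (R.nW w)⁻¹ = xGL R.xadd (D.simple j) a * u1 := by
  classical
  obtain ⟨hAc, hJ, hlow⟩ := hA
  -- the main induction
  have main : ∀ k : ℕ, ∀ (u : GL D.Idx F) (c : F) (n : GL D.Idx F), k ∈ A → c ≠ 0 →
      n ∈ rootsSubgroup D F (A.filter fun r => decide (k < r)) → u = xGL R.xadd k c * n →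
      ∃ (w : List ℕ) (j : ℕ) (a : F) (u1 : GL D.Idx F), (∀ i ∈ w, i ∈ J) ∧ j ∈ J ∧ a ≠ 0 ∧
        u1 ∈ rootsSubgroup D F (A.filter fun r => decide (r ≠ D.simple j)) ∧
        R.nW w * u * (R.nW w)⁻¹ = xGL R.xadd (D.simple j) a * u1 := by
    intro k
    induction k using Nat.strong_induction_on with
    | _ k IH =>
      intro u c n hk hc hn hu
      by_cases hks : ∃ j ∈ J, k = D.simple j
      · obtain ⟨j, hj, rfl⟩ := hks
        refine ⟨[], j, c, n, by simp, hj, hc, ?_, ?_⟩
        · refine rootsSubgroup_mono ?_ hn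
          intro r hr
          rw [List.mem_filter, decide_eq_true_eq] at hr ⊢
          exact ⟨hr.1, Nat.ne_of_gt hr.2⟩
        · rw [R.nW_nil, hu]; group
      · obtain ⟨i, hiJ, hlt⟩ : ∃ i ∈ J, D.reflectRoot i k < k := by
          rcases hlow k hk with h | h
          · exact absurd h hks
          · exact h
        obtain ⟨hi, hcl, hrefl⟩ := hJ i hiJ
        have hkp : k ≠ D.simple i := fun e => hks ⟨i, hiJ, e⟩
        have hmemB : ∀ r, r ∈ A.filter (fun r => decide (k < r ∧ r ≠ D.simple i)) ↔
            r ∈ A ∧ k < r ∧ r ≠ D.simple i := by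
          intro r; rw [List.mem_filter, decide_eq_true_eq]
        -- either done, or `n` has no coordinate at `p_i`
        have hcase : (∃ (a : F) (u1 : GL D.Idx F), a ≠ 0 ∧
            u1 ∈ rootsSubgroup D F (A.filter fun r => decide (r ≠ D.simple i)) ∧
            u = xGL R.xadd (D.simple i) a * u1) ∨
            n ∈ rootsSubgroup D F (A.filter (fun r => decide (k < r ∧ r ≠ D.simple i))) := by
          by_cases hpA : D.simple i ∈ A
          · have hnorm : ∀ a : F,
                ∀ n ∈ rootsSubgroup D F (A.filter (fun r => decide (k < r ∧ r ≠ D.simple i))),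
                xGL R.xadd (D.simple i) a * n * (xGL R.xadd (D.simple i) a)⁻¹ ∈
                  rootsSubgroup D F (A.filter (fun r => decide (k < r ∧ r ≠ D.simple i))) := by
              intro a
              apply conj_mem R hW (hAc.1 _ hpA)
              intro s hs
              rw [hmemB] at hs
              refine ⟨hAc.1 s hs.1, hs.2.2, ?_⟩
              rcases Nat.lt_or_gt_of_ne hs.2.2 with h | h
              · right
                intro c hc
                left
                have h1 := lt_of_commTerms hW (hAc.1 s hs.1) (hAc.1 _ hpA) hc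
                rw [hmemB]
                exact ⟨hAc.2 s hs.1 _ hpA h c hc, by omega, by omega⟩
              · left
                intro c hc
                left
                have h1 := lt_of_commTerms hW (hAc.1 _ hpA) (hAc.1 s hs.1) hc
                rw [hmemB]
                exact ⟨hAc.2 _ hpA s hs.1 h c hc, by omega, by omega⟩
            have hn' : n ∈ rootsSubgroup D F
                (D.simple i :: A.filter (fun r => decide (k < r ∧ r ≠ D.simple i))) := by
              refine rootsSubgroup_mono ?_ hn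
              intro r hr
              rw [List.mem_filter, decide_eq_true_eq] at hr
              by_cases e : r = D.simple i
              · rw [e]; exact List.mem_cons_self
              · exact List.mem_cons_of_mem _ ((hmemB r).mpr ⟨hr.1, hr.2, e⟩)
            obtain ⟨a, n1, hn1, rfl⟩ := decomp_cons R.xadd hnorm n hn'
            by_cases ha : a = 0
            · right
              rw [ha, xGL_zero, one_mul]; exact hn1
            · left
              refine ⟨a, (xGL R.xadd (D.simple i) a)⁻¹ * xGL R.xadd k c * xGL R.xadd (D.simple i) a * n1,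
                ha, ?_, ?_⟩
              · apply mul_mem
                · have hT : TermsIn D F (D.simple i) k (A.filter fun r => decide (r ≠ D.simple i)) ∨
                      TermsIn D F k (D.simple i) (A.filter fun r => decide (r ≠ D.simple i)) := by
                    rcases Nat.lt_or_gt_of_ne hkp with h | h
                    · right; intro c' hc'; left
                      have h1 := lt_of_commTerms hW (hAc.1 k hk) (hAc.1 _ hpA) hc'
                      rw [List.mem_filter, decide_eq_true_eq]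
                      exact ⟨hAc.2 k hk _ hpA h c' hc', by omega⟩
                    · left; intro c' hc'; left
                      have h1 := lt_of_commTerms hW (hAc.1 _ hpA) (hAc.1 k hk) hc'
                      rw [List.mem_filter, decide_eq_true_eq]
                      exact ⟨hAc.2 _ hpA k hk h c' hc', by omega⟩
                  have := conj_gen_mem R (A := A.filter fun r => decide (r ≠ D.simple i))
                    (hAc.1 _ hpA).1 (hAc.1 k hk).1 hkp (pos_ne_neg hW (hAc.1 _ hpA) (hAc.1 k hk))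
                    (by rw [List.mem_filter, decide_eq_true_eq]; exact ⟨hk, hkp⟩) hT (-a) c
                  rwa [← xGL_inv, inv_inv] at this
                · refine rootsSubgroup_mono ?_ hn1
                  intro r hr
                  rw [hmemB] at hr
                  rw [List.mem_filter, decide_eq_true_eq]
                  exact ⟨hr.1, hr.2.2⟩
              · rw [hu]; group
          · right
            refine rootsSubgroup_mono ?_ hn
            intro r hr
            rw [List.mem_filter, decide_eq_true_eq] at hr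
            rw [hmemB]
            exact ⟨hr.1, hr.2, fun e => hpA (e ▸ hr.1)⟩
        rcases hcase with ⟨a, u1, ha, hu1m, hua⟩ | hnB
        · exact ⟨[], i, a, u1, by simp, hiJ, ha, hu1m, by rw [R.nW_nil, hua]; group⟩
        · -- conjugate by `n_i`
          have hBc : PosClosed D (A.filter (fun r => decide (k < r ∧ r ≠ D.simple i))) := by
            constructor
            · intro r hr; exact hAc.1 r ((hmemB r).mp hr).1
            · intro r hr s hs hrs c hc
              rw [hmemB] at hr hs ⊢
              have h1 := hcl.2 r (by rw [List.mem_filter, decide_eq_true_eq]; exact ⟨hr.1, hr.2.2⟩)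
                s (by rw [List.mem_filter, decide_eq_true_eq]; exact ⟨hs.1, hs.2.2⟩) hrs c hc
              rw [List.mem_filter, decide_eq_true_eq] at h1
              have h2 := lt_of_commTerms hW (hAc.1 r hr.1) (hAc.1 s hs.1) hc
              exact ⟨h1.1, by omega, h1.2⟩
          obtain ⟨LB, τ, hLs, hLm, hnw⟩ := exists_word R hW hE hBc hnB
          have huw : u = wordGL R.xadd ((k, c) :: LB.map fun r => (r, τ r)) := by
            rw [wordGL_cons, ← hnw, hu]
          have hlt_all : ∀ q ∈ ((k, c) :: LB.map fun r => (r, τ r)), q.1 < D.nroots := by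
            intro q hq
            rcases List.mem_cons.mp hq with rfl | hq
            · exact (hAc.1 k hk).1
            · rw [List.mem_map] at hq
              obtain ⟨r, hr, rfl⟩ := hq
              exact (hBc.1 r ((hLm r).mp hr)).1
          have hconj := n_conj_wordGL R hi _ hlt_all
          rw [← huw] at hconj
          have hw1A : ∀ q ∈ (((k, c) :: LB.map fun r => (r, τ r)).map fun q =>
              (D.reflectRoot i q.1, ((η i q.1 : ℤ) : F) * q.2)), q.1 ∈ A := by
            intro q hq
            rw [List.mem_map] at hq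
            obtain ⟨q', hq', rfl⟩ := hq
            rcases List.mem_cons.mp hq' with rfl | hq'
            · exact hrefl k hk hkp
            · rw [List.mem_map] at hq'
              obtain ⟨r, hr, rfl⟩ := hq'
              have := (hmemB r).mp ((hLm r).mp hr)
              exact hrefl r this.1 this.2.2
          have hnd : ((((k, c) :: LB.map fun r => (r, τ r)).map fun q =>
              (D.reflectRoot i q.1, ((η i q.1 : ℤ) : F) * q.2)).map Prod.fst).Nodup := by
            have e : (((k, c) :: LB.map fun r => (r, τ r)).map fun q =>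
                (D.reflectRoot i q.1, ((η i q.1 : ℤ) : F) * q.2)).map Prod.fst =
                (k :: LB).map (D.reflectRoot i) := by
              simp [List.map_map, Function.comp_def]
            rw [e]
            have hlt' : ∀ x ∈ k :: LB, x < D.nroots := by
              intro x hx
              rcases List.mem_cons.mp hx with rfl | hx
              · exact (hAc.1 x hk).1
              · exact (hBc.1 x ((hLm x).mp hx)).1
            apply List.Nodup.map_on
            · intro x hx y hy hxy
              rw [← R.wf.refl_refl i hi x (hlt' x hx), hxy, R.wf.refl_refl i hi y (hlt' y hy)]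
            · rw [List.nodup_cons]
              refine ⟨?_, hLs.imp (fun h => Nat.ne_of_lt h)⟩
              intro hkL
              have := (hmemB k).mp ((hLm k).mp hkL)
              omega
          have hq1 : (D.reflectRoot i k, ((η i k : ℤ) : F) * c) ∈
              (((k, c) :: LB.map fun r => (r, τ r)).map fun q =>
                (D.reflectRoot i q.1, ((η i q.1 : ℤ) : F) * q.2)) :=
            List.mem_map.mpr ⟨(k, c), List.mem_cons_self, rfl⟩
          have hη : ((η i k : ℤ) : F) * c ≠ 0 := by
            apply mul_ne_zero _ hc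
            intro e
            have := R.eta_mul_self (F := F) hi (hAc.1 k hk).1
            rw [e, zero_mul] at this
            exact zero_ne_one this
          obtain ⟨m, c', n', hmA, hmle, hc', hn', hw⟩ := scrambled R hW hAc _ hw1A hnd hq1 hη
          have hmk : m < k := lt_of_le_of_lt hmle hlt
          obtain ⟨w, j, a, u1, hwJ, hjJ, ha, hu1, hfin⟩ :=
            IH m hmk (R.n i * u * (R.n i)⁻¹) c' n' hmA hc' hn' (by rw [hconj, hw])
          refine ⟨w ++ [i], j, a, u1, ?_, hjJ, ha, hu1, ?_⟩
          · intro i' hi'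
            rcases List.mem_append.mp hi' with h | h
            · exact hwJ i' h
            · rw [List.mem_singleton] at h; rw [h]; exact hiJ
          · rw [R.nW_append, R.nW_cons, R.nW_nil, mul_one, ← hfin]; group
  -- the first coordinate of `u`
  obtain ⟨L, τ, hLs, hLm, huw⟩ := exists_word R hW hE hAc hu
  have hex : ∃ r ∈ L, τ r ≠ 0 := by
    by_contra hcon
    push Not at hcon
    apply hu1
    have h1 : wordGL R.xadd (L.map fun r => (r, τ r)) ∈ rootsSubgroup D F [] := by
      apply wordGL_mem_of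
      intro q hq
      rw [List.mem_map] at hq
      obtain ⟨r, hr, rfl⟩ := hq
      exact Or.inr (hcon r hr)
    rw [rootsSubgroup_nil, Subgroup.mem_bot] at h1
    rw [huw, h1]
  obtain ⟨r0, hr0, hτ0⟩ := hex
  have hnd : ((L.map fun r => (r, τ r)).map Prod.fst).Nodup := by
    have e : (L.map fun r => (r, τ r)).map Prod.fst = L := by
      simp [List.map_map, Function.comp_def]
    rw [e]
    exact hLs.imp (fun h => Nat.ne_of_lt h)
  obtain ⟨m, c, n, hmA, -, hc, hn, hw⟩ := scrambled R hW hAc (L.map fun r => (r, τ r))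
    (by
      intro q hq
      rw [List.mem_map] at hq
      obtain ⟨r, hr, rfl⟩ := hq
      exact (hLm r).mp hr) hnd (q1 := (r0, τ r0)) (List.mem_map.mpr ⟨r0, hr0, rfl⟩) hτ0
  exact main m u c n hmA hc hn (by rw [huw, hw])

end Cfsg.Agent.Helper18.RSub
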