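/-
helper18: characteristic two; an involution `x_p(a) u`, with `u` in the subgroup of `Fix` and the strings of
`S`, is conjugate inside that subgroup to `x_p(a) u'` with `u'` in the subgroup of `Fix` (`invol_cocycle`).
The proof runs along the chain of the subgroups of `Fix` and the last strings: at the string `(b, t)` the
coefficient at `b` vanishes, and a conjugation by `x_b(s)` removes the coefficient at `t`.
-/
import Cfsg.Agent.Helper18.RSub

set_option autoImplicit false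

namespace Cfsg.Agent.Helper18.RSub

open Cfsg Cfsg.Lie Cfsg.Agent.Helper17 Cfsg.Agent.Helper36 Cfsg.Agent.Helper18

section abstract

variable {G : Type*} [Group G] {K : Type*} [Field K] [CharP K 2]

/-- One step, in an abstract group. -/
theorem step_abstract (N : Subgroup G) (x : G) (xb xt : K → G) (lam : K)
    (hx2 : x * x = 1)
    (hxN : ∀ n ∈ N, x * n * x⁻¹ ∈ N)
    (hbN : ∀ s, ∀ n ∈ N, xb s * n * (xb s)⁻¹ ∈ N)
    (htN : ∀ s, ∀ n ∈ N, xt s * n * (xt s)⁻¹ ∈ N)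
    (hb_add : ∀ s s', xb s * xb s' = xb (s + s')) (ht_add : ∀ s s', xt s * xt s' = xt (s + s'))
    (hb0 : xb 0 = 1) (ht0 : xt 0 = 1)
    (hbt : ∀ s s', ∃ n ∈ N, xt s' * xb s = xb s * xt s' * n)
    (hxb : ∀ s, ∃ n ∈ N, x * xb s * x⁻¹ = xb s * xt (lam * s) * n)
    (hxt : ∀ s, ∃ n ∈ N, x * xt s * x⁻¹ = xt s * n)
    (htinj : ∀ c, xt c ∈ N → c = 0) (hlam : lam ≠ 0)
    (c0 c1 : K) (n : G) (hn : n ∈ N)
    (hinv : (x * (xb c0 * xt c1 * n)) * (x * (xb c0 * xt c1 * n)) = 1) :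
    ∃ s : K, ∃ n' ∈ N, xb s * (x * (xb c0 * xt c1 * n)) * (xb s)⁻¹ = x * n' := by
  have hxinv : x⁻¹ = x := inv_eq_of_mul_eq_one_left hx2
  have hbinv : ∀ s, (xb s)⁻¹ = xb s := fun s =>
    inv_eq_of_mul_eq_one_left (by rw [hb_add, CharTwo.add_self_eq_zero, hb0])
  have htinv : ∀ s, (xt s)⁻¹ = xt s := fun s =>
    inv_eq_of_mul_eq_one_left (by rw [ht_add, CharTwo.add_self_eq_zero, ht0])
  have hbN' : ∀ s, ∀ n ∈ N, (xb s)⁻¹ * n * xb s ∈ N := by
    intro s n hn
    have := hbN s n hn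
    rw [hbinv] at this ⊢
    exact this
  have htN' : ∀ s, ∀ n ∈ N, (xt s)⁻¹ * n * xt s ∈ N := by
    intro s n hn
    have := htN s n hn
    rw [htinv] at this ⊢
    exact this
  have M1 : ∀ (g g' : G) (α β α' β' : K), (∃ n ∈ N, g = xb α * xt β * n) →
      (∃ n ∈ N, g' = xb α' * xt β' * n) →
      ∃ n ∈ N, g * g' = xb (α + α') * xt (β + β') * n := by
    rintro g g' α β α' β' ⟨n, hn, rfl⟩ ⟨n', hn', rfl⟩
    obtain ⟨m, hm, hme⟩ := hbt α' β
    refine ⟨(xt β')⁻¹ * m * xt β' * ((xt β')⁻¹ * ((xb α')⁻¹ * n * xb α') * xt β') * n', ?_, ?_⟩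
    · exact mul_mem (mul_mem (htN' β' m hm) (htN' β' _ (hbN' α' n hn))) hn'
    · have hm' : m = (xb α' * xt β)⁻¹ * (xt β * xb α') := by rw [hme]; group
      rw [← hb_add, ← ht_add, hm']
      group
  have M2 : ∀ (g : G) (α β : K), (∃ n ∈ N, g = xb α * xt β * n) →
      ∃ n ∈ N, x * g * x⁻¹ = xb α * xt (lam * α + β) * n := by
    rintro g α β ⟨n, hn, rfl⟩
    obtain ⟨n1, hn1, e1⟩ := hxb α
    obtain ⟨n2, hn2, e2⟩ := hxt β
    refine ⟨(xt β)⁻¹ * n1 * xt β * n2 * (x * n * x⁻¹),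
      mul_mem (mul_mem (htN' β n1 hn1) hn2) (hxN n hn), ?_⟩
    have e : x * (xb α * xt β * n) * x⁻¹ =
        (x * xb α * x⁻¹) * (x * xt β * x⁻¹) * (x * n * x⁻¹) := by group
    rw [e, e1, e2, ← ht_add]
    group
  have Qu : ∃ n' ∈ N, xb c0 * xt c1 * n = xb c0 * xt c1 * n' := ⟨n, hn, rfl⟩
  have h1 := M2 _ c0 c1 Qu
  obtain ⟨n4, hn4, e4⟩ := M1 _ _ _ _ _ _ h1 Qu
  have hone : x * (xb c0 * xt c1 * n) * x⁻¹ * (xb c0 * xt c1 * n) = 1 := by
    rw [hxinv]
    calc x * (xb c0 * xt c1 * n) * x * (xb c0 * xt c1 * n)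
        = (x * (xb c0 * xt c1 * n)) * (x * (xb c0 * xt c1 * n)) := by group
      _ = 1 := hinv
  rw [hone, CharTwo.add_self_eq_zero, hb0, one_mul, add_assoc, CharTwo.add_self_eq_zero,
    add_zero] at e4
  have hc0 : c0 = 0 := by
    have h5 : xt (lam * c0) ∈ N := by
      have : xt (lam * c0) = n4⁻¹ := eq_inv_of_mul_eq_one_left e4.symm
      rw [this]; exact inv_mem hn4
    rcases mul_eq_zero.mp (htinj _ h5) with h | h
    · exact absurd h hlam
    · exact h
  subst hc0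
  have hls : lam * (c1 / lam) = c1 := by field_simp
  have Qb : ∃ n' ∈ N, xb (c1 / lam) = xb (c1 / lam) * xt 0 * n' :=
    ⟨1, one_mem _, by rw [ht0, mul_one, mul_one]⟩
  have h6 := M2 _ (c1 / lam) 0 Qb
  have Qu' : ∃ n' ∈ N, xb 0 * xt c1 * n = xb 0 * xt c1 * n' := ⟨n, hn, rfl⟩
  have h7 := M1 _ _ _ _ _ _ h6 Qu'
  obtain ⟨n8, hn8, e8⟩ := M1 _ _ _ _ _ _ h7 Qb
  refine ⟨c1 / lam, n8, hn8, ?_⟩
  have ez : c1 / lam + 0 + c1 / lam = 0 := by rw [add_zero, CharTwo.add_self_eq_zero]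
  have ez2 : lam * (c1 / lam) + 0 + c1 + 0 = 0 := by
    rw [hls, add_zero, add_zero, CharTwo.add_self_eq_zero]
  have e9 : xb (c1 / lam + 0 + c1 / lam) * xt (lam * (c1 / lam) + 0 + c1 + 0) * n8 = n8 := by
    rw [ez, ez2, hb0, ht0, one_mul, one_mul]
  rw [e9] at e8
  rw [← e8, hbinv, hxinv]
  have : x * (x * xb (c1 / lam) * x * (xb 0 * xt c1 * n) * xb (c1 / lam)) =
      (x * x) * (xb (c1 / lam) * (x * (xb 0 * xt c1 * n)) * xb (c1 / lam)) := by group
  rw [this, hx2, one_mul]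

end abstract

variable {D : ChevalleyDatum} {F : Type*} [Field F] {η : ℕ → ℕ → ℤ} {f : ℕ → ℤ}

theorem cast_even_zero [CharP F 2] {e : ℤ} (h : e % 2 = 0) : ((e : ℤ) : F) = 0 := by
  obtain ⟨k, rfl⟩ := Int.dvd_of_emod_eq_zero h
  rw [Int.cast_mul, Int.cast_ofNat, CharTwo.two_eq_zero, zero_mul]

theorem cast_odd_one [CharP F 2] {e : ℤ} (h : e % 2 = 1) : ((e : ℤ) : F) = 1 := by
  have h2 : e = 2 * (e / 2) + 1 := by omega
  rw [h2, Int.cast_add, Int.cast_mul, Int.cast_ofNat, CharTwo.two_eq_zero, zero_mul, zero_add,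
    Int.cast_one]

theorem termsIn_of_even [CharP F 2] {q s : ℕ} {A : List ℕ}
    (h : ∀ c ∈ D.commTerms q s, c.1 ∈ A ∨ c.2.1 % 2 = 0) : TermsIn D F q s A := by
  intro c hc
  rcases h c hc with h1 | h1
  · exact Or.inl h1
  · exact Or.inr (cast_even_zero h1)

/-- `x_q(u)` normalises the subgroup of `A` (which may contain `q`). -/
theorem conj_mem2 (R : BRel D F η) (hW : WtFacts D f) {q : ℕ} {A : List ℕ} (hq : D.IsPosRoot q)
    (hA : ∀ s ∈ A, D.IsPosRoot s ∧ (s ≠ q → TermsIn D F q s A ∨ TermsIn D F s q A)) (u : F) :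
    ∀ n ∈ rootsSubgroup D F A, xGL R.xadd q u * n * (xGL R.xadd q u)⁻¹ ∈ rootsSubgroup D F A := by
  unfold rootsSubgroup
  apply conj_mem_closure
  rintro g ⟨s, hs, t, hg⟩
  rw [eq_xGL R.xadd hg]
  obtain ⟨h1, h3⟩ := hA s hs
  by_cases e : s = q
  · subst e
    have : xGL R.xadd s u * xGL R.xadd s t * (xGL R.xadd s u)⁻¹ = xGL R.xadd s t := by
      rw [xGL_inv, xGL_mul, xGL_mul]; congr 1; ring
    rw [this]; exact xGL_mem R.xadd hs t
  · exact conj_gen_mem R hq.1 h1.1 e (pos_ne_neg hW hq h1) hs (h3 e) u t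

theorem wordMat_ite_single (hX : XAdd D F) (t : ℕ) (c : F) :
    ∀ (P : List ℕ), P.Nodup →
      D.wordMat F (P.map fun r => (r, if r = t then c else 0)) = if t ∈ P then D.x F t c else 1 := by
  intro P
  induction P with
  | nil => intro _; rfl
  | cons ρ P ih =>
    intro hnd
    rw [List.nodup_cons] at hnd
    rw [List.map_cons, wordMat_cons', ih hnd.2]
    by_cases e : ρ = t
    · subst e
      simp [hnd.1]
    · have e' : ¬ t = ρ := fun h => e h.symm
      simp [e, e', hX.zero' ρ]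

theorem wordMat_filter_ite (hX : XAdd D F) (τ : ℕ → F) (Pd : ℕ → Prop) [DecidablePred Pd] :
    ∀ (P : List ℕ), D.wordMat F ((P.filter fun r => decide (Pd r)).map fun r => (r, τ r)) =
      D.wordMat F (P.map fun r => (r, if Pd r then τ r else 0)) := by
  intro P
  induction P with
  | nil => rfl
  | cons ρ P ih =>
    by_cases e : Pd ρ
    · rw [List.filter_cons_of_pos (by simpa using e), List.map_cons, List.map_cons, wordMat_cons',
        wordMat_cons', ih, if_pos e]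
    · rw [List.filter_cons_of_neg (by simpa using e), List.map_cons, wordMat_cons', ih, if_neg e,
        hX.zero' ρ, one_mul]

/-- A root element of a positive root outside a closed set `A` does not lie in the subgroup of `A`, unless it
is trivial. -/
theorem x_not_mem_closed (R : BRel D F η) (hW : WtFacts D f) (hE : RootElts D F) {A : List ℕ}
    (hA : PosClosed D A) {t : ℕ} (ht : D.IsPosRoot t) (htA : t ∉ A) {c : F}
    (h : xGL R.xadd t c ∈ rootsSubgroup D F A) : c = 0 := by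
  classical
  have CFp : CommFormulaPos D F :=
    commFormulaPos_of_full hW (fun r s hr hs h1 h2 => R.cf r hr s hs h1 h2)
  have hmem : ∀ r, r ∈ D.posRoots.filter (fun r => decide (r ∈ A)) ↔ r ∈ A := by
    intro r
    rw [List.mem_filter, decide_eq_true_eq, mem_posRoots]
    exact ⟨fun h => h.2, fun h => ⟨hA.1 r h, h⟩⟩
  have hs : (D.posRoots.filter (fun r => decide (r ∈ A))).Pairwise (· < ·) :=
    List.Pairwise.filter _ posRoots_sorted
  rw [← rootsSubgroup_congr hmem] at h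
  obtain ⟨τ, hτ⟩ := exists_coeff hW hE CFp _ hs (fun r hr => hA.1 r ((hmem r).mp hr))
    (fun r hr s hs' hrs c hc => (hmem _).mpr (hA.2 r ((hmem r).mp hr) s ((hmem s).mp hs') hrs c hc))
    _ h
  rw [xGL_val, wordMat_filter_ite R.xadd τ (fun r => r ∈ A)] at hτ
  have h2 := wordMat_ite_single R.xadd t c D.posRoots (posRoots_sorted.imp (fun h => Nat.ne_of_lt h))
  rw [if_pos (mem_posRoots.mpr ht)] at h2
  have key := coeff_unique hW hE D.posRoots posRoots_sorted
    (fun r hr => ⟨(mem_posRoots.mp hr).1, (hW.pos r (mem_posRoots.mp hr).1).mp (mem_posRoots.mp hr)⟩)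
    (fun r => if r = t then c else 0) (fun r => if r ∈ A then τ r else 0) (by rw [h2, hτ])
    t (mem_posRoots.mpr ht)
  simpa [htA] using key

/-- A word whose letters are at the root `t`, in `A'`, or trivial, is `x_t(Σ)` times an element of the
subgroup of `A'`. -/
theorem word_top (hX : XAdd D F) {t : ℕ} {A' : List ℕ}
    (hnorm : ∀ u : F, ∀ n ∈ rootsSubgroup D F A',
      (xGL hX t u)⁻¹ * n * xGL hX t u ∈ rootsSubgroup D F A')
    (coef : (ℕ × ℤ × ℕ × ℕ) → F) :
    ∀ l : List (ℕ × ℤ × ℕ × ℕ), (∀ c ∈ l, c.1 = t ∨ c.1 ∈ A' ∨ coef c = 0) →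
      ∃ n ∈ rootsSubgroup D F A', wordGL hX (l.map fun c => (c.1, coef c)) =
        xGL hX t (((l.filter fun c => decide (c.1 = t)).map coef).sum) * n := by
  intro l
  induction l with
  | nil =>
    intro _
    exact ⟨1, one_mem _, by simp [wordGL_nil, xGL_zero]⟩
  | cons c l ih =>
    intro h
    obtain ⟨n, hn, e⟩ := ih (fun c' hc' => h c' (List.mem_cons_of_mem _ hc'))
    rw [List.map_cons, wordGL_cons, e]
    by_cases hct : c.1 = t
    · refine ⟨n, hn, ?_⟩
      rw [List.filter_cons_of_pos (by simpa using hct), List.map_cons, List.sum_cons, ← xGL_mul,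
        hct, mul_assoc]
    · have hg : xGL hX c.1 (coef c) ∈ rootsSubgroup D F A' := by
        rcases h c List.mem_cons_self with h1 | h1 | h1
        · exact absurd h1 hct
        · exact xGL_mem hX h1 _
        · rw [h1, xGL_zero]; exact one_mem _
      rw [List.filter_cons_of_neg (by simpa using hct)]
      exact ⟨(xGL hX t (((l.filter fun c => decide (c.1 = t)).map coef).sum))⁻¹ * xGL hX c.1 (coef c) *
        xGL hX t (((l.filter fun c => decide (c.1 = t)).map coef).sum) * n,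
        mul_mem (hnorm _ _ hg) hn, by group⟩

/-- One step of the chain. -/
theorem step_root [CharP F 2] (R : BRel D F η) (hW : WtFacts D f) (hE : RootElts D F)
    {p b t : ℕ} {A' : List ℕ} (hp : D.IsPosRoot p) (hS : StepOK D p b t A') (a : F) (ha : a ≠ 0)
    (u : GL D.Idx F) (hu : u ∈ rootsSubgroup D F (b :: t :: A'))
    (hinv : (xGL R.xadd p a * u) * (xGL R.xadd p a * u) = 1) :
    ∃ s : F, ∃ n' ∈ rootsSubgroup D F A',
      xGL R.xadd b s * (xGL R.xadd p a * u) * (xGL R.xadd b s)⁻¹ = xGL R.xadd p a * n' := by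
  obtain ⟨hAc, hSp, hb, ht, hbt, hbp, htp, hbA, htA, hSb, hSt, hTbt, hTpt, hTpb, hfil⟩ := hS
  obtain ⟨c0, hc0, hc0e⟩ := List.map_eq_singleton_iff.mp hfil
  rw [Prod.mk.injEq] at hc0e
  have hxN : ∀ n ∈ rootsSubgroup D F A',
      xGL R.xadd p a * n * (xGL R.xadd p a)⁻¹ ∈ rootsSubgroup D F A' :=
    conj_mem2 R hW hp (fun s hs => ⟨hAc.1 s hs, fun _ => Or.inl (termsIn_of_even (hSp s hs))⟩) a
  have hbN : ∀ s, ∀ n ∈ rootsSubgroup D F A',
      xGL R.xadd b s * n * (xGL R.xadd b s)⁻¹ ∈ rootsSubgroup D F A' := fun s =>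
    conj_mem2 R hW hb (fun s' hs' => ⟨hAc.1 s' hs', fun _ => Or.inl (termsIn_of_even (hSb s' hs'))⟩) s
  have htN : ∀ s, ∀ n ∈ rootsSubgroup D F A',
      xGL R.xadd t s * n * (xGL R.xadd t s)⁻¹ ∈ rootsSubgroup D F A' := fun s =>
    conj_mem2 R hW ht (fun s' hs' => ⟨hAc.1 s' hs', fun _ => Or.inl (termsIn_of_even (hSt s' hs'))⟩) s
  have htN' : ∀ s, ∀ n ∈ rootsSubgroup D F A',
      (xGL R.xadd t s)⁻¹ * n * xGL R.xadd t s ∈ rootsSubgroup D F A' := by
    intro s n hn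
    have := htN (-s) n hn
    rwa [← xGL_inv, inv_inv] at this
  have hx2 : xGL R.xadd p a * xGL R.xadd p a = 1 := by
    rw [xGL_mul, CharTwo.add_self_eq_zero, xGL_zero]
  have hcfbt : CF D F b t := R.cf b hb.1 t ht.1 (Ne.symm hbt) (pos_ne_neg hW hb ht)
  have hcfpb : CF D F p b := R.cf p hp.1 b hb.1 hbp (pos_ne_neg hW hp hb)
  have hcfpt : CF D F p t := R.cf p hp.1 t ht.1 htp (pos_ne_neg hW hp ht)
  have hbt' : ∀ s s' : F, ∃ n ∈ rootsSubgroup D F A',
      xGL R.xadd t s' * xGL R.xadd b s = xGL R.xadd b s * xGL R.xadd t s' * n := by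
    intro s s'
    refine ⟨wordGL R.xadd (D.commWord F b t s s'), commWord_mem R.xadd (termsIn_of_even hTbt) _ _, ?_⟩
    apply Units.ext
    simp only [Units.val_mul, xGL_val, wordGL_val]
    exact hcfbt s s'
  have hxb : ∀ s : F, ∃ n ∈ rootsSubgroup D F A',
      xGL R.xadd p a * xGL R.xadd b s * (xGL R.xadd p a)⁻¹ =
        xGL R.xadd b s * xGL R.xadd t (a ^ c0.2.2.1 * s) * n := by
    intro s
    obtain ⟨n, hn, e⟩ := word_top R.xadd htN'
      (fun c => ((c.2.1 : ℤ) : F) * (-(-a)) ^ c.2.2.1 * s ^ c.2.2.2) (D.commTerms p b) (by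
        intro c hc
        rcases hTpb c hc with h1 | h1 | h1
        · exact Or.inl h1
        · exact Or.inr (Or.inl h1)
        · right; right
          show ((c.2.1 : ℤ) : F) * (-(-a)) ^ c.2.2.1 * s ^ c.2.2.2 = 0
          rw [cast_even_zero h1, zero_mul, zero_mul])
    refine ⟨n, hn, ?_⟩
    rw [xGL_conj R.xadd hcfpb a s]
    have e0 : D.commWord F p b (-a) s = (D.commTerms p b).map
        (fun c => (c.1, ((c.2.1 : ℤ) : F) * (-(-a)) ^ c.2.2.1 * s ^ c.2.2.2)) := rfl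
    rw [e0, e, hc0]
    simp only [List.map_cons, List.map_nil, List.sum_cons, List.sum_nil, add_zero]
    rw [cast_odd_one hc0e.1, hc0e.2, pow_one, neg_neg, one_mul, mul_assoc]
  have hxt : ∀ s : F, ∃ n ∈ rootsSubgroup D F A',
      xGL R.xadd p a * xGL R.xadd t s * (xGL R.xadd p a)⁻¹ = xGL R.xadd t s * n := fun s =>
    ⟨wordGL R.xadd (D.commWord F p t (-a) s), commWord_mem R.xadd (termsIn_of_even hTpt) _ _,
      xGL_conj R.xadd hcfpt a s⟩
  -- the decomposition of `u`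
  have hnb' : ∀ s : F, ∀ n ∈ rootsSubgroup D F (t :: A'),
      xGL R.xadd b s * n * (xGL R.xadd b s)⁻¹ ∈ rootsSubgroup D F (t :: A') := by
    intro s
    apply conj_mem2 R hW hb
    intro s' hs'
    rcases List.mem_cons.mp hs' with rfl | hs''
    · refine ⟨ht, fun _ => Or.inl ?_⟩
      intro c hc
      rcases termsIn_of_even (F := F) hTbt c hc with h1 | h1
      · exact Or.inl (List.mem_cons_of_mem _ h1)
      · exact Or.inr h1
    · refine ⟨hAc.1 s' hs'', fun _ => Or.inl ?_⟩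
      intro c hc
      rcases termsIn_of_even (F := F) (hSb s' hs'') c hc with h1 | h1
      · exact Or.inl (List.mem_cons_of_mem _ h1)
      · exact Or.inr h1
  obtain ⟨c0', n0, hn0, rfl⟩ := decomp_cons R.xadd hnb' u hu
  obtain ⟨c1, n, hn, rfl⟩ := decomp_cons R.xadd htN n0 hn0
  have e : xGL R.xadd b c0' * (xGL R.xadd t c1 * n) = xGL R.xadd b c0' * xGL R.xadd t c1 * n :=
    (mul_assoc _ _ _).symm
  rw [e] at hinv ⊢
  exact step_abstract (rootsSubgroup D F A') (xGL R.xadd p a) (xGL R.xadd b) (xGL R.xadd t)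
    (a ^ c0.2.2.1) hx2 hxN hbN htN (fun s s' => xGL_mul R.xadd b s s')
    (fun s s' => xGL_mul R.xadd t s s') (xGL_zero R.xadd b) (xGL_zero R.xadd t) hbt' hxb hxt
    (fun c hc => x_not_mem_closed R hW hE hAc ht htA hc) (pow_ne_zero _ ha) c0' c1 n hn hinv

/-- T2 (cocycle), characteristic two: an involution `x_p(a) u₁`, with `u₁` in the subgroup of `Fix` and the
strings `S`, is conjugate, by an element of that subgroup, to `x_p(a) u₂` with `u₂` in the subgroup of
`Fix`. -/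
theorem invol_cocycle [CharP F 2] (R : BRel D F η) (hW : WtFacts D f) (hE : RootElts D F)
    (p : ℕ) (Fix : List ℕ) (S : List (ℕ × ℕ)) (hp : D.IsPosRoot p) (hS : StrOK D p Fix S)
    (a : F) (ha : a ≠ 0) (u1 : GL D.Idx F) (hu1 : u1 ∈ rootsSubgroup D F (Fix ++ strRoots S))
    (hinv : (xGL R.xadd p a * u1) * (xGL R.xadd p a * u1) = 1) :
    ∃ v ∈ rootsSubgroup D F (Fix ++ strRoots S), ∃ u2 ∈ rootsSubgroup D F Fix,
      v * (xGL R.xadd p a * u1) * v⁻¹ = xGL R.xadd p a * u2 := by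
  induction S generalizing u1 with
  | nil =>
    refine ⟨1, one_mem _, u1, ?_, by group⟩
    have e : strRoots ([] : List (ℕ × ℕ)) = [] := rfl
    rw [e, List.append_nil] at hu1
    exact hu1
  | cons st S ih =>
    have hS2 : StepOK D p st.1 st.2 (Fix ++ strRoots S) ∧ StrOK D p Fix S := hS
    obtain ⟨hstep, hS'⟩ := hS2
    have e : strRoots (st :: S) = st.1 :: st.2 :: strRoots S := rfl
    have hu1' : u1 ∈ rootsSubgroup D F (st.1 :: st.2 :: (Fix ++ strRoots S)) := by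
      refine rootsSubgroup_mono ?_ hu1
      intro r hr
      rw [e] at hr
      simp only [List.mem_append, List.mem_cons] at hr ⊢
      tauto
    obtain ⟨s, n', hn', e1⟩ := step_root R hW hE hp hstep a ha u1 hu1' hinv
    have hinv' : (xGL R.xadd p a * n') * (xGL R.xadd p a * n') = 1 := by
      rw [← e1]
      have h3 : ∀ v g : GL D.Idx F, v * g * v⁻¹ * (v * g * v⁻¹) = v * (g * g) * v⁻¹ := by
        intros; group
      rw [h3, hinv]; group
    obtain ⟨v, hv, u2, hu2, e2⟩ := ih hS' n' hn' hinv'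
    have hmono : ∀ r ∈ Fix ++ strRoots S, r ∈ Fix ++ strRoots (st :: S) := by
      intro r hr
      rw [e]
      simp only [List.mem_append, List.mem_cons] at hr ⊢
      tauto
    refine ⟨v * xGL R.xadd st.1 s, mul_mem (rootsSubgroup_mono hmono hv) (xGL_mem R.xadd ?_ s),
      u2, hu2, ?_⟩
    · rw [e]; simp
    · rw [← e2, ← e1]; group

end Cfsg.Agent.Helper18.RSub
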