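/-
helper18: the checks (decidable, on the tables) behind two lemmas on the subgroups generated by root subgroups of
positive roots: lowering a nontrivial element to one with a nonzero coordinate at a fundamental root (`LowOK`),
and, in characteristic two, conjugating an involution `x_p(a) u` into `x_p(a)` times the subgroup of the roots
orthogonal to `p` (`StrOK`).
-/
import Cfsg.Agent.Helper18.FAut4

set_option autoImplicit false

namespace Cfsg.Agent.Helper18.RSub

open Cfsg Cfsg.Lie Cfsg.Agent.Helper17 Cfsg.Agent.Helper36 Cfsg.Agent.Helper18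

/-- `A` is a set of positive roots that contains the roots of the commutator formula of its pairs. -/
def PosClosed (D : ChevalleyDatum) (A : List ℕ) : Prop :=
  (∀ r ∈ A, D.IsPosRoot r) ∧ ∀ r ∈ A, ∀ s ∈ A, r < s → ∀ c ∈ D.commTerms r s, c.1 ∈ A

instance (D : ChevalleyDatum) (A : List ℕ) : Decidable (PosClosed D A) := by
  unfold PosClosed; infer_instance

/-- Characteristic two: the roots of the commutator formula of `r` and the members of `A` lie in `A`, up to
the terms with an even coefficient. -/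
def Stab (D : ChevalleyDatum) (r : ℕ) (A : List ℕ) : Prop :=
  ∀ s ∈ A, ∀ c ∈ D.commTerms r s, c.1 ∈ A ∨ c.2.1 % 2 = 0

instance (D : ChevalleyDatum) (r : ℕ) (A : List ℕ) : Decidable (Stab D r A) := by
  unfold Stab; infer_instance

/-- The roots of a list of strings `(bottom, top)`. -/
def strRoots : List (ℕ × ℕ) → List ℕ
  | [] => []
  | s :: S => s.1 :: s.2 :: strRoots S

/-- One step of the chain for `x_p`: the string `(b, t)` over the closed set `A'`. -/
def StepOK (D : ChevalleyDatum) (p b t : ℕ) (A' : List ℕ) : Prop :=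
  PosClosed D A' ∧ Stab D p A' ∧ D.IsPosRoot b ∧ D.IsPosRoot t ∧ b ≠ t ∧ b ≠ p ∧ t ≠ p ∧
  b ∉ A' ∧ t ∉ A' ∧ Stab D b A' ∧ Stab D t A' ∧
  (∀ c ∈ D.commTerms b t, c.1 ∈ A' ∨ c.2.1 % 2 = 0) ∧
  (∀ c ∈ D.commTerms p t, c.1 ∈ A' ∨ c.2.1 % 2 = 0) ∧
  (∀ c ∈ D.commTerms p b, c.1 = t ∨ c.1 ∈ A' ∨ c.2.1 % 2 = 0) ∧
  ((D.commTerms p b).filter (fun c => decide (c.1 = t))).map (fun c => (c.2.1 % 2, c.2.2.2)) = [(1, 1)]

instance (D : ChevalleyDatum) (p b t : ℕ) (A' : List ℕ) : Decidable (StepOK D p b t A') := by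
  unfold StepOK; infer_instance

/-- The chain for `x_p`: `Fix` and the strings `S`, in the order of the steps. -/
def StrOK (D : ChevalleyDatum) (p : ℕ) (Fix : List ℕ) : List (ℕ × ℕ) → Prop
  | [] => True
  | s :: S => StepOK D p s.1 s.2 (Fix ++ strRoots S) ∧ StrOK D p Fix S

instance StrOK.dec (D : ChevalleyDatum) (p : ℕ) (Fix : List ℕ) :
    (S : List (ℕ × ℕ)) → Decidable (StrOK D p Fix S)
  | [] => isTrue trivial
  | _ :: S => @instDecidableAnd _ _ inferInstance (StrOK.dec D p Fix S)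

/-- The hypotheses of the lowering lemma for the positive roots `A` of the Levi subsystem of `J`. -/
def LowOK (D : ChevalleyDatum) (A J : List ℕ) : Prop :=
  PosClosed D A ∧
  (∀ i ∈ J, i < D.rank ∧ PosClosed D (A.filter fun r => decide (r ≠ D.simple i)) ∧
      ∀ r ∈ A, r ≠ D.simple i → D.reflectRoot i r ∈ A) ∧
  ∀ r ∈ A, (∃ i ∈ J, r = D.simple i) ∨ ∃ i ∈ J, D.reflectRoot i r < r

instance (D : ChevalleyDatum) (A J : List ℕ) : Decidable (LowOK D A J) := by
  unfold LowOK; infer_instance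

variable {D : ChevalleyDatum} {F : Type*} [Field F]

/-- `rootsSubgroup` depends only on the members of the list. -/
theorem rootsSubgroup_congr {A B : List ℕ} (h : ∀ r, r ∈ A ↔ r ∈ B) :
    rootsSubgroup D F A = rootsSubgroup D F B := by
  unfold rootsSubgroup
  congr 1
  ext g
  constructor
  · rintro ⟨r, hr, t, e⟩; exact ⟨r, (h r).mp hr, t, e⟩
  · rintro ⟨r, hr, t, e⟩; exact ⟨r, (h r).mpr hr, t, e⟩

theorem rootsSubgroup_mono {A B : List ℕ} (h : ∀ r ∈ A, r ∈ B) :
    rootsSubgroup D F A ≤ rootsSubgroup D F B := by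
  unfold rootsSubgroup
  apply Subgroup.closure_mono
  rintro g ⟨r, hr, t, e⟩
  exact ⟨r, h r hr, t, e⟩

end Cfsg.Agent.Helper18.RSub
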