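import Cfsg.Agent.Helper18.Sym

/-!
# Symbolic columns of root elements and soundness against `D.x`, `D.wordMat` (helper18)
-/

set_option autoImplicit false

namespace Cfsg.Agent.Helper18

open Cfsg.Lie

variable (D : ChevalleyDatum)

/-- The code of a coordinate: `h_i ↦ i`, `e_s ↦ rank + s`. -/
def code : D.Idx → ℕ
  | Sum.inl i => i.val
  | Sum.inr s => D.rank + s.val

@[simp] theorem code_inl (i : Fin D.rank) : code D (Sum.inl i) = i.val := rfl
@[simp] theorem code_inr (s : Fin D.nroots) : code D (Sum.inr s) = D.rank + s.val := rfl

theorem code_injective : Function.Injective (code D) := by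
  intro a b h
  rcases a with i | s <;> rcases b with j | s'
  · simp only [code_inl] at h; exact congrArg _ (Fin.ext h)
  · simp only [code_inl, code_inr] at h; have := i.isLt; omega
  · simp only [code_inl, code_inr] at h; have := j.isLt; omega
  · simp only [code_inr] at h; exact congrArg _ (Fin.ext (by omega))

theorem code_lt (a : D.Idx) : code D a < D.rank + D.nroots := by
  rcases a with i | s
  · simp only [code_inl]; have := i.isLt; omega
  · simp only [code_inr]; have := s.isLt; omega

theorem exists_code_eq {k : ℕ} (h : k < D.rank + D.nroots) : ∃ a, code D a = k := by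
  by_cases hk : k < D.rank
  · exact ⟨Sum.inl ⟨k, hk⟩, rfl⟩
  · exact ⟨Sum.inr ⟨k - D.rank, by omega⟩, by simp only [code_inr]; omega⟩

/-- The symbolic column `k` of the root element `x_r(p)`. -/
def symCol (r : ℕ) (p : Raw) (k : ℕ) : SVec :=
  if k < D.rank + D.nroots then
    if r < D.nroots then
      if k < D.rank then
        [(k, oneR), (D.rank + r, smulR (-((D.cartanSR.getD k #[]).getD r 0)) p)]
      else if k - D.rank = r then [(k, oneR)]
      else if k - D.rank = D.negIdx.getD r 0 then
        (k, oneR) :: (D.rank + r, negR (powR p 2)) ::
          (List.range D.rank).map fun i => (i, smulR ((D.coroot.getD r #[]).getD i 0) p)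
      else
        (k, oneR) :: ((D.chain.getD r #[]).toList.filter (fun e => e.1 = k - D.rank)).flatMap fun e =>
          e.2.toList.zipIdx.map fun q => (D.rank + q.1.1, smulR q.1.2 (powR p (q.2 + 1)))
    else [(k, oneR)]
  else []

/-- Apply the word `w` (product of root elements, in order) to a symbolic vector. -/
def applyW (w : SWord) (x : SVec) : SVec :=
  w.foldr (fun g x => applyC (symCol D g.1 g.2) x) x

/-- Check that two words have equal matrices. -/
def checkEqW (w1 w2 : SWord) : Bool :=
  (List.range (D.rank + D.nroots)).all fun k =>
    eqV (applyW D w1 [(k, oneR)]) (applyW D w2 [(k, oneR)])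

/-- Check that the columns of the matrix of the word are the given symbolic vectors. -/
def checkCols (w : SWord) (E : ℕ → SVec) : Bool :=
  (List.range (D.rank + D.nroots)).all fun k => eqV (applyW D w [(k, oneR)]) (E k)

section Eval

variable {F : Type*} [Field F] (t : Fˣ) (u v : F)

/-- The vector denoted by a sparse symbolic vector. -/
def den (w : SVec) : D.Idx → F := fun a => evV t u v w (code D a)

/-- A symbolic column function is sound for a matrix. -/
structure SoundCol (c : ℕ → SVec) (M : Matrix D.Idx D.Idx F) : Prop where
  entry : ∀ a b, evV t u v (c (code D b)) (code D a) = M a b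
  oor : ∀ k, D.rank + D.nroots ≤ k → c k = []

theorem den_applyC {c : ℕ → SVec} {M : Matrix D.Idx D.Idx F} (h : SoundCol D t u v c M) (w : SVec) :
    den D t u v (applyC c w) = M.mulVec (den D t u v w) := by
  funext a
  unfold den applyC
  rw [evV_normV]
  induction w with
  | nil => simp [Matrix.mulVec, dotProduct]
  | cons e w ih =>
    rw [List.flatMap_cons, evV_append, ih, evV_map_mulR]
    simp only [Matrix.mulVec, dotProduct]
    simp only [evV_cons, mul_add, Finset.sum_add_distrib]
    congr 1
    by_cases hk : e.1 < D.rank + D.nroots
    · obtain ⟨b, hb⟩ := exists_code_eq D hk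
      rw [Finset.sum_eq_single b]
      · rw [if_pos hb.symm, ← hb, h.entry]
      · intro b' _ hne
        rw [if_neg, mul_zero]
        intro h'
        exact hne (code_injective D (h'.symm.trans hb.symm))
      · intro hb'; exact absurd (Finset.mem_univ b) hb'
    · rw [h.oor e.1 (not_lt.mp hk)]
      rw [evV_nil, zero_mul]
      symm
      apply Finset.sum_eq_zero
      intro b _
      rw [if_neg, mul_zero]
      intro h'
      exact hk (h' ▸ code_lt D b)

theorem den_single (b : D.Idx) : den D t u v [(code D b, oneR)] = Pi.single b 1 := by
  funext a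
  unfold den
  rw [evV_single, ev_oneR]
  by_cases h : b = a
  · subst h; simp
  · rw [if_neg (fun h' => h (code_injective D h')), Pi.single_apply, if_neg (fun h' => h h'.symm)]

end Eval

end Cfsg.Agent.Helper18
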