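import Cfsg.Agent.Helper18.Tw1Tab
import Cfsg.Agent.Helper18.TwU3
import Cfsg.Agent.Helper18.TwD

/-!
# The tables of the triality of D₄ (helper18)
-/

set_option autoImplicit false

namespace Cfsg.Agent.Helper18

open Cfsg Cfsg.Lie Cfsg.Agent.Helper17 Cfsg.Agent.Helper36

theorem twTab2_D4a : TwTab2 chevD4 gautP_D4a d4l where
  refl := by decide +kernel
  inj := by decide +kernel

theorem htFacts_D4 : HtFacts chevD4 where
  chain := by decide +kernel
  neg := by decide +kernel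
  pos := by decide +kernel
  comm := by decide +kernel
  unit := by decide +kernel

theorem rho_ht_D4a : ∀ r < chevD4.nroots, htR chevD4 (rhoP chevD4 gautP_D4a r) = htR chevD4 r := by
  decide +kernel

/-- The orbits of the triality on the nodes of D₄ (the second one in both orders). -/
def d4Blocks : List (List ℕ) := [[1], [0, 2, 3], [3, 2, 0]]

/-- Representatives of the twelve elements of the Weyl group of D₄ fixed by the triality. -/
def d4Cw : List (List (List ℕ)) :=
  [[], [[1]], [[0, 2, 3]], [[1], [0, 2, 3]], [[0, 2, 3], [1]], [[1], [0, 2, 3], [1]],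
   [[0, 2, 3], [1], [0, 2, 3]], [[1], [0, 2, 3], [1], [0, 2, 3]], [[0, 2, 3], [1], [0, 2, 3], [1]],
   [[1], [0, 2, 3], [1], [0, 2, 3], [1]], [[0, 2, 3], [1], [0, 2, 3], [1], [0, 2, 3]],
   [[1], [0, 2, 3], [1], [0, 2, 3], [1], [0, 2, 3]]]

theorem cwOK_D4 : CwOK chevD4 d4Blocks d4Cw where
  mem := by decide +kernel
  lt := by decide +kernel
  nil := by decide +kernel
  closed := by decide +kernel
  nodup := by decide +kernel

theorem blocksChk_D4 : BlocksChk chevD4 d4l d4Blocks where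
  cover := by decide +kernel
  lt := by decide +kernel
  trans := by decide +kernel
  fix := by decide +kernel
  nodup := by decide +kernel
  comm := by decide +kernel
  rev := by decide +kernel

/-- the root elements of `±p₁`, `±p₃`, `±p₄` commute. -/
theorem d4_orth : ∀ p ∈ [(18, 13), (18, 12), (13, 12), (13, 18), (12, 18), (12, 13)],
    ∀ a ∈ [p.1, chevD4.neg p.1], ∀ b ∈ [p.2, chevD4.neg p.2], StrOrth chevD4 a b := by
  decide +kernel

/-- The twelve representatives with the positive roots they make negative and the orbits of the triality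
on these. -/
def d4Data : List (List (List ℕ) × List ℕ × List (List ℕ)) :=
  [([], [], []),
   ([[1]], [14], [[14]]),
   ([[0, 2, 3]], [12, 13, 18], [[18, 13, 12]]),
   ([[1], [0, 2, 3]], [12, 13, 18, 22], [[18, 13, 12], [22]]),
   ([[0, 2, 3], [1]], [14, 15, 16, 19], [[14], [19, 16, 15]]),
   ([[1], [0, 2, 3], [1]], [14, 15, 16, 19, 23], [[14], [19, 16, 15], [23]]),
   ([[0, 2, 3], [1], [0, 2, 3]], [12, 13, 17, 18, 20, 21, 22], [[18, 13, 12], [17, 20, 21], [22]]),
   ([[1], [0, 2, 3], [1], [0, 2, 3]], [12, 13, 17, 18, 20, 21, 22, 23],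
     [[18, 13, 12], [17, 20, 21], [22], [23]]),
   ([[0, 2, 3], [1], [0, 2, 3], [1]], [14, 15, 16, 17, 19, 20, 21, 23],
     [[14], [19, 16, 15], [17, 20, 21], [23]]),
   ([[1], [0, 2, 3], [1], [0, 2, 3], [1]], [14, 15, 16, 17, 19, 20, 21, 22, 23],
     [[14], [19, 16, 15], [17, 20, 21], [22], [23]]),
   ([[0, 2, 3], [1], [0, 2, 3], [1], [0, 2, 3]], [12, 13, 15, 16, 17, 18, 19, 20, 21, 22, 23],
     [[18, 13, 12], [19, 16, 15], [17, 20, 21], [22], [23]]),
   ([[1], [0, 2, 3], [1], [0, 2, 3], [1], [0, 2, 3]], [12, 13, 14, 15, 16, 17, 18, 19, 20, 21, 22, 23],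
     [[18, 13, 12], [14], [19, 16, 15], [17, 20, 21], [22], [23]])]

theorem d4Cw_eq : d4Cw = d4Data.map fun x => x.1 := by decide +kernel

theorem d4Data_orb : ∀ x ∈ d4Data, OrbOK chevD4 gautP_D4a 3 x.2.2 x.2.1 := by decide +kernel

theorem d4Data_sorted : ∀ x ∈ d4Data, x.2.1.Pairwise (· < ·) := by decide +kernel

theorem d4Data_closed : ∀ x ∈ d4Data, ∀ r ∈ x.2.1, ∀ s ∈ x.2.1, r < s →
    ∀ c ∈ chevD4.commTerms r s, c.1 ∈ x.2.1 := by decide +kernel

theorem d4Data_mem : ∀ x ∈ d4Data, (∀ r ∈ x.2.1, r < chevD4.nroots) ∧ ∀ r < chevD4.nroots,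
    (r ∈ x.2.1 ↔ chevD4.IsPosRoot r ∧ chevD4.IsNegRoot (wW chevD4 x.1.flatten r)) := by
  decide +kernel

theorem d4Data_len : ∀ x ∈ d4Data, (x.2.2.map List.length).sum = x.1.flatten.length := by
  decide +kernel

theorem d4_posRoots : chevD4.posRoots = [12, 13, 14, 15, 16, 17, 18, 19, 20, 21, 22, 23] := by
  decide +kernel

/-- The conjugations carrying the orbits of the fundamental roots to the other orbits of positive roots. -/
theorem d4_conj3 : ∀ x ∈ [([1], 19, 16, 15), ([0, 2, 3, 1], 17, 20, 21)],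
    wW chevD4 x.1 18 = x.2.1 ∧ wW chevD4 x.1 13 = x.2.2.1 ∧ wW chevD4 x.1 12 = x.2.2.2 ∧
    eW chevD4 (etaN chevD4) x.1 13 * epsP chevD4 gautP_D4a 18 =
      epsP chevD4 gautP_D4a x.2.1 * eW chevD4 (etaN chevD4) x.1 18 ∧
    eW chevD4 (etaN chevD4) x.1 12 * epsP chevD4 gautP_D4a 13 * epsP chevD4 gautP_D4a 18 =
      epsP chevD4 gautP_D4a x.2.2.1 * epsP chevD4 gautP_D4a x.2.1 * eW chevD4 (etaN chevD4) x.1 18 := by
  decide +kernel

theorem d4_conj1 : wW chevD4 [0, 2, 3] 14 = 22 ∧ wW chevD4 [1, 0, 2, 3] 14 = 23 := by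
  decide +kernel

end Cfsg.Agent.Helper18
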