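import Cfsg.Agent.Helper18.WCox
import Cfsg.Prelude.Def_ChevE6

/-!
# Weyl group certificates for type E6 (helper18; generated)
-/

set_option autoImplicit false
set_option maxRecDepth 1000000

namespace Cfsg.Agent.Helper18

open Cfsg.Lie

/-- the masks of the levels, type E6 -/
def wAf_E6 : ℕ → ℕ
  | 1 => 72057594037927936
  | 2 => 70368744177664
  | 3 => 144119586122366976
  | 4 => 2595349368609439744
  | 5 => 171220402737298538496
  | 6 => 4548334483146113286144
  | _ => 0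

/-- the last image masks of the levels, type E6 -/
def wHi_E6 : ℕ → ℕ
  | 1 => 72057594037927936
  | 2 => 70368744177664
  | 3 => 144119586122366976
  | 4 => 2595349368609439744
  | 5 => 171220402737298538496
  | 6 => 4548334483146113286144
  | _ => 0

/-- the coset representatives of level 1, type E6 -/
def wT_E6_1 : List (List ℕ) := [[0], []]

/-- the coset representatives of level 2, type E6 -/
def wT_E6_2 : List (List ℕ) := [[1], []]

/-- the coset representatives of level 3, type E6 -/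
def wT_E6_3 : List (List ℕ) := [[0, 2], [2], []]

/-- the coset representatives of level 4, type E6 -/
def wT_E6_4 : List (List ℕ) := [[2, 3, 0, 2, 1, 3], [3, 0, 2, 1, 3], [0, 2, 1, 3], [0, 2, 3], [3, 2, 1, 3], [2, 1, 3], [1, 3], [2, 3], [3], []]

/-- the coset representatives of level 5, type E6 -/
def wT_E6_5 : List (List ℕ) := [[1, 3, 4, 2, 3, 0, 2, 1, 3, 4], [3, 4, 2, 3, 0, 2, 1, 3, 4], [4, 2, 3, 0, 2, 1, 3, 4], [2, 3, 0, 2, 1, 3, 4], [4, 3, 0, 2, 1, 3, 4], [3, 0, 2, 1, 3, 4], [0, 2, 1, 3, 4], [0, 2, 3, 4], [4, 3, 2, 1, 3, 4], [3, 2, 1, 3, 4], [2, 1, 3, 4], [2, 3, 4], [1, 3, 4], [3, 4], [4], []]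

/-- the coset representatives of level 6, type E6 -/
def wT_E6_6 : List (List ℕ) := [[0, 2, 3, 4, 5, 1, 3, 4, 2, 3, 0, 2, 1, 3, 4, 5], [2, 3, 4, 5, 1, 3, 4, 2, 3, 0, 2, 1, 3, 4, 5], [3, 4, 5, 1, 3, 4, 2, 3, 0, 2, 1, 3, 4, 5], [4, 5, 1, 3, 4, 2, 3, 0, 2, 1, 3, 4, 5], [5, 1, 3, 4, 2, 3, 0, 2, 1, 3, 4, 5], [1, 3, 4, 2, 3, 0, 2, 1, 3, 4, 5], [4, 5, 3, 4, 2, 3, 0, 2, 1, 3, 4, 5], [5, 3, 4, 2, 3, 0, 2, 1, 3, 4, 5], [3, 4, 2, 3, 0, 2, 1, 3, 4, 5], [5, 4, 2, 3, 0, 2, 1, 3, 4, 5], [4, 2, 3, 0, 2, 1, 3, 4, 5], [2, 3, 0, 2, 1, 3, 4, 5], [5, 4, 3, 0, 2, 1, 3, 4, 5], [5, 4, 3, 2, 1, 3, 4, 5], [4, 3, 0, 2, 1, 3, 4, 5], [4, 3, 2, 1, 3, 4, 5], [3, 0, 2, 1, 3, 4, 5], [3, 2, 1, 3, 4, 5], [0, 2, 1, 3, 4, 5], [2, 1, 3, 4, 5], [1, 3, 4, 5], [0, 2, 3, 4, 5], [2, 3, 4, 5], [3, 4, 5], [4, 5], [5], []]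

/-- the coset representatives of the levels, type E6 -/
def wTf_E6 : ℕ → List (List ℕ)
  | 1 => wT_E6_1
  | 2 => wT_E6_2
  | 3 => wT_E6_3
  | 4 => wT_E6_4
  | 5 => wT_E6_5
  | 6 => wT_E6_6
  | _ => []

/-- the Coxeter matrix, type E6 -/
def wC_E6 : List (List ℕ) := [[1, 2, 3, 2, 2, 2], [2, 1, 2, 3, 2, 2], [3, 2, 1, 3, 2, 2], [2, 3, 3, 1, 3, 2], [2, 2, 2, 3, 1, 3], [2, 2, 2, 2, 3, 1]]

theorem wPos_E6 : posHalfB chevE6 = true := by decide +kernel
theorem wStab_E6_1 : stabB chevE6 1 72057594037927936 = true := by decide +kernel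
theorem wChain_E6_1 : chainB chevE6 1 72057594037927936 0 wT_E6_1 72057594037927936 = true := by decide +kernel
theorem wStab_E6_2 : stabB chevE6 2 70368744177664 = true := by decide +kernel
theorem wChain_E6_2 : chainB chevE6 2 70368744177664 0 wT_E6_2 70368744177664 = true := by decide +kernel
theorem wStab_E6_3 : stabB chevE6 3 144119586122366976 = true := by decide +kernel
theorem wChain_E6_3 : chainB chevE6 3 144119586122366976 0 wT_E6_3 144119586122366976 = true := by decide +kernel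
theorem wStab_E6_4 : stabB chevE6 4 2595349368609439744 = true := by decide +kernel
theorem wChain_E6_4 : chainB chevE6 4 2595349368609439744 0 wT_E6_4 2595349368609439744 = true := by decide +kernel
theorem wStab_E6_5 : stabB chevE6 5 171220402737298538496 = true := by decide +kernel
theorem wChain_E6_5 : chainB chevE6 5 171220402737298538496 0 wT_E6_5 171220402737298538496 = true := by decide +kernel
theorem wStab_E6_6 : stabB chevE6 6 4548334483146113286144 = true := by decide +kernel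
theorem wChain_E6_6 : chainB chevE6 6 4548334483146113286144 0 wT_E6_6 4548334483146113286144 = true := by decide +kernel
theorem wRel_E6 : relB chevE6 wC_E6 = true := by decide +kernel
theorem wM_E6 : ∀ i j : Fin 6, (CoxeterMatrix.E₆) (id i) (id j) = cmN wC_E6 i.val j.val := by decide +kernel
theorem wProd_E6 : ((List.range 6).map fun k => (wTf_E6 (k + 1)).length).prod = 51840 := by decide +kernel
theorem wPoly_E6 : pprodN ((List.range 6).map fun m => hist (wTf_E6 (m + 1))) =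
    pprodN ([2, 5, 6, 8, 9, 12].map fun d => List.replicate d 1) := by decide +kernel

end Cfsg.Agent.Helper18
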