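import Cfsg.Agent.Helper18.WCox
import Cfsg.Prelude.Def_ChevE7

/-!
# Weyl group certificates for type E7 (helper18; generated)
-/

set_option autoImplicit false
set_option maxRecDepth 1000000

namespace Cfsg.Agent.Helper18

open Cfsg.Lie

/-- the masks of the levels, type E7 -/
def wAf_E7 : ℕ → ℕ
  | 1 => 9903520314283042199192993792
  | 2 => 302231454903657293676544
  | 3 => 19807050073299050137676414976
  | 4 => 673449676720475335730395086848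
  | 5 => 660525366214698937098575657566208
  | 6 => 712746851228055447396695286032105472
  | 7 => 84357183650479796370774154234839433216
  | _ => 0

/-- the last image masks of the levels, type E7 -/
def wHi_E7 : ℕ → ℕ
  | 1 => 9903520314283042199192993792
  | 2 => 302231454903657293676544
  | 3 => 19807050073299050137676414976
  | 4 => 673449676720475335730395086848
  | 5 => 660525366214698937098575657566208
  | 6 => 712746851228055447396695286032105472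
  | 7 => 84357183650479796370774154234839433216
  | _ => 0

/-- the coset representatives of level 1, type E7 -/
def wT_E7_1 : List (List ℕ) := [[0], []]

/-- the coset representatives of level 2, type E7 -/
def wT_E7_2 : List (List ℕ) := [[1], []]

/-- the coset representatives of level 3, type E7 -/
def wT_E7_3 : List (List ℕ) := [[0, 2], [2], []]

/-- the coset representatives of level 4, type E7 -/
def wT_E7_4 : List (List ℕ) := [[2, 3, 0, 2, 1, 3], [3, 0, 2, 1, 3], [0, 2, 1, 3], [0, 2, 3], [3, 2, 1, 3], [2, 1, 3], [1, 3], [2, 3], [3], []]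

/-- the coset representatives of level 5, type E7 -/
def wT_E7_5 : List (List ℕ) := [[1, 3, 4, 2, 3, 0, 2, 1, 3, 4], [3, 4, 2, 3, 0, 2, 1, 3, 4], [4, 2, 3, 0, 2, 1, 3, 4], [2, 3, 0, 2, 1, 3, 4], [4, 3, 0, 2, 1, 3, 4], [3, 0, 2, 1, 3, 4], [0, 2, 1, 3, 4], [0, 2, 3, 4], [4, 3, 2, 1, 3, 4], [3, 2, 1, 3, 4], [2, 1, 3, 4], [2, 3, 4], [1, 3, 4], [3, 4], [4], []]

/-- the coset representatives of level 6, type E7 -/
def wT_E7_6 : List (List ℕ) := [[0, 2, 3, 4, 5, 1, 3, 4, 2, 3, 0, 2, 1, 3, 4, 5], [2, 3, 4, 5, 1, 3, 4, 2, 3, 0, 2, 1, 3, 4, 5], [3, 4, 5, 1, 3, 4, 2, 3, 0, 2, 1, 3, 4, 5], [4, 5, 1, 3, 4, 2, 3, 0, 2, 1, 3, 4, 5], [5, 1, 3, 4, 2, 3, 0, 2, 1, 3, 4, 5], [1, 3, 4, 2, 3, 0, 2, 1, 3, 4, 5], [4, 5, 3, 4, 2, 3, 0, 2, 1, 3, 4, 5], [5, 3, 4, 2, 3, 0, 2, 1, 3, 4, 5], [3, 4, 2, 3, 0, 2, 1, 3, 4, 5], [5, 4, 2, 3, 0, 2, 1, 3, 4, 5], [4, 2,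 3, 0, 2, 1, 3, 4, 5], [2, 3, 0, 2, 1, 3, 4, 5], [5, 4, 3, 0, 2, 1, 3, 4, 5], [5, 4, 3, 2, 1, 3, 4, 5], [4, 3, 0, 2, 1, 3, 4, 5], [4, 3, 2, 1, 3, 4, 5], [3, 0, 2, 1, 3, 4, 5], [3, 2, 1, 3, 4, 5], [0, 2, 1, 3, 4, 5], [2, 1, 3, 4, 5], [1, 3, 4, 5], [0, 2, 3, 4, 5], [2, 3, 4, 5], [3, 4, 5], [4, 5], [5], []]

/-- the coset representatives of level 7, type E7 -/
def wT_E7_7 : List (List ℕ) := [[6, 5, 4, 3, 2, 1, 3, 4, 5, 6, 0, 2, 3, 4, 5, 1, 3, 4, 2, 3, 0, 2, 1, 3, 4, 5, 6], [5, 4, 3, 2, 1, 3, 4, 5, 6, 0, 2, 3, 4, 5, 1, 3, 4, 2, 3, 0, 2, 1, 3, 4, 5, 6], [4, 3, 2, 1, 3, 4, 5, 6, 0, 2, 3, 4, 5, 1, 3, 4, 2, 3, 0, 2, 1, 3, 4, 5, 6], [3, 2, 1, 3, 4, 5, 6, 0, 2, 3, 4, 5, 1, 3, 4, 2, 3, 0, 2, 1, 3, 4, 5, 6], [2, 1, 3, 4, 5, 6, 0, 2, 3, 4, 5, 1, 3, 4, 2, 3, 0, 2, 1, 3, 4, 5, 6], [1, 3, 4, 5, 6, 0, 2, 3, 4, 5, 1, 3, 4, 2, 3, 0, 2, 1, 3, 4, 5, 6], [2,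 3, 4, 5, 6, 0, 2, 3, 4, 5, 1, 3, 4, 2, 3, 0, 2, 1, 3, 4, 5, 6], [3, 4, 5, 6, 0, 2, 3, 4, 5, 1, 3, 4, 2, 3, 0, 2, 1, 3, 4, 5, 6], [4, 5, 6, 0, 2, 3, 4, 5, 1, 3, 4, 2, 3, 0, 2, 1, 3, 4, 5, 6], [5, 6, 0, 2, 3, 4, 5, 1, 3, 4, 2, 3, 0, 2, 1, 3, 4, 5, 6], [6, 0, 2, 3, 4, 5, 1, 3, 4, 2, 3, 0, 2, 1, 3, 4, 5, 6], [0, 2, 3, 4, 5, 1, 3, 4, 2, 3, 0, 2, 1, 3, 4, 5, 6], [1, 3, 4, 5, 6, 2, 3, 4, 5, 1, 3, 4, 2, 3, 0, 2, 1, 3, 4, 5, 6], [3, 4, 5, 6, 2, 3, 4, 5, 1, 3, 4, 2, 3, 0, 2, 1, 3, 4, 5, 6], [4, 5, 6, 2, 3, 4, 5, 1, 3, 4, 2, 3, 0, 2, 1, 3, 4, 5, 6], [5, 6, 2, 3, 4, 5, 1, 3, 4, 2, 3, 0, 2, 1, 3, 4, 5, 6], [6, 2, 3, 4, 5, 1, 3, 4, 2, 3, 0, 2, 1, 3, 4, 5, 6], [2, 3, 4, 5, 1, 3, 4, 2, 3, 0, 2, 1, 3, 4, 5, 6], [4, 5, 6, 3, 4, 5, 1, 3, 4, 2, 3, 0, 2, 1, 3, 4, 5, 6], [5, 6, 3, 4, 5, 1, 3, 4, 2, 3, 0, 2, 1, 3, 4, 5, 6], [6, 3, 4, 5, 1, 3, 4, 2, 3, 0, 2,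 1, 3, 4, 5, 6], [3, 4, 5, 1, 3, 4, 2, 3, 0, 2, 1, 3, 4, 5, 6], [5, 6, 4, 5, 1, 3, 4, 2, 3, 0, 2, 1, 3, 4, 5, 6], [6, 4, 5, 1, 3, 4, 2, 3, 0, 2, 1, 3, 4, 5, 6], [4, 5, 1, 3, 4, 2, 3, 0, 2, 1, 3, 4, 5, 6], [6, 5, 1, 3, 4, 2, 3, 0, 2, 1, 3, 4, 5, 6], [5, 1, 3, 4, 2, 3, 0, 2, 1, 3, 4, 5, 6], [1, 3, 4, 2, 3, 0, 2, 1, 3, 4, 5, 6], [5, 6, 4, 5, 3, 4, 2, 3, 0, 2, 1, 3, 4, 5, 6], [6, 4, 5, 3, 4, 2, 3, 0, 2, 1, 3, 4, 5, 6], [4, 5, 3, 4, 2, 3, 0, 2, 1, 3, 4, 5, 6], [6, 5, 3, 4, 2, 3, 0, 2, 1, 3, 4, 5, 6], [5, 3, 4, 2, 3, 0, 2, 1, 3, 4, 5, 6], [3, 4, 2, 3, 0, 2, 1, 3, 4, 5, 6], [6, 5, 4, 2, 3, 0, 2, 1, 3, 4, 5, 6], [5, 4, 2, 3, 0, 2, 1, 3, 4, 5, 6], [4, 2, 3, 0, 2, 1, 3, 4, 5, 6], [2, 3, 0, 2, 1, 3, 4, 5, 6], [6, 5, 4, 3, 0, 2, 1, 3, 4, 5, 6], [5, 4, 3, 0, 2, 1, 3, 4, 5, 6], [4, 3, 0, 2, 1, 3, 4, 5, 6], [3, 0, 2, 1, 3, 4, 5, 6], [0, 2, 1, 3, 4,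 5, 6], [0, 2, 3, 4, 5, 6], [6, 5, 4, 3, 2, 1, 3, 4, 5, 6], [5, 4, 3, 2, 1, 3, 4, 5, 6], [4, 3, 2, 1, 3, 4, 5, 6], [3, 2, 1, 3, 4, 5, 6], [2, 1, 3, 4, 5, 6], [2, 3, 4, 5, 6], [1, 3, 4, 5, 6], [3, 4, 5, 6], [4, 5, 6], [5, 6], [6], []]

/-- the coset representatives of the levels, type E7 -/
def wTf_E7 : ℕ → List (List ℕ)
  | 1 => wT_E7_1
  | 2 => wT_E7_2
  | 3 => wT_E7_3
  | 4 => wT_E7_4
  | 5 => wT_E7_5
  | 6 => wT_E7_6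
  | 7 => wT_E7_7
  | _ => []

/-- the Coxeter matrix, type E7 -/
def wC_E7 : List (List ℕ) := [[1, 2, 3, 2, 2, 2, 2], [2, 1, 2, 3, 2, 2, 2], [3, 2, 1, 3, 2, 2, 2], [2, 3, 3, 1, 3, 2, 2], [2, 2, 2, 3, 1, 3, 2], [2, 2, 2, 2, 3, 1, 3], [2, 2, 2, 2, 2, 3, 1]]

theorem wPos_E7 : posHalfB chevE7 = true := by decide +kernel
theorem wStab_E7_1 : stabB chevE7 1 9903520314283042199192993792 = true := by decide +kernel
theorem wChain_E7_1 : chainB chevE7 1 9903520314283042199192993792 0 wT_E7_1 9903520314283042199192993792 = true := by decide +kernel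
theorem wStab_E7_2 : stabB chevE7 2 302231454903657293676544 = true := by decide +kernel
theorem wChain_E7_2 : chainB chevE7 2 302231454903657293676544 0 wT_E7_2 302231454903657293676544 = true := by decide +kernel
theorem wStab_E7_3 : stabB chevE7 3 19807050073299050137676414976 = true := by decide +kernel
theorem wChain_E7_3 : chainB chevE7 3 19807050073299050137676414976 0 wT_E7_3 19807050073299050137676414976 = true := by decide +kernel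
theorem wStab_E7_4 : stabB chevE7 4 673449676720475335730395086848 = true := by decide +kernel
theorem wChain_E7_4 : chainB chevE7 4 673449676720475335730395086848 0 wT_E7_4 673449676720475335730395086848 = true := by decide +kernel
theorem wStab_E7_5 : stabB chevE7 5 660525366214698937098575657566208 = true := by decide +kernel
theorem wChain_E7_5 : chainB chevE7 5 660525366214698937098575657566208 0 wT_E7_5 660525366214698937098575657566208 = true := by decide +kernel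
theorem wStab_E7_6 : stabB chevE7 6 712746851228055447396695286032105472 = true := by decide +kernel
theorem wChain_E7_6 : chainB chevE7 6 712746851228055447396695286032105472 0 wT_E7_6 712746851228055447396695286032105472 = true := by decide +kernel
theorem wStab_E7_7 : stabB chevE7 7 84357183650479796370774154234839433216 = true := by decide +kernel
theorem wChain_E7_7 : chainB chevE7 7 84357183650479796370774154234839433216 0 wT_E7_7 84357183650479796370774154234839433216 = true := by decide +kernel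
theorem wRel_E7 : relB chevE7 wC_E7 = true := by decide +kernel
theorem wM_E7 : ∀ i j : Fin 7, (CoxeterMatrix.E₇) (id i) (id j) = cmN wC_E7 i.val j.val := by decide +kernel
theorem wProd_E7 : ((List.range 7).map fun k => (wTf_E7 (k + 1)).length).prod = 2903040 := by decide +kernel
theorem wPoly_E7 : pprodN ((List.range 7).map fun m => hist (wTf_E7 (m + 1))) =
    pprodN ([2, 6, 8, 10, 12, 14, 18].map fun d => List.replicate d 1) := by decide +kernel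

end Cfsg.Agent.Helper18
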